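import Mathlib
import Cfsg.Agent.Lib.Helper6.JC.JC9
import Cfsg.Agent.Lib.Lead.Holo5
import Cfsg.Agent.Lib.Lead.SolvPSolv

/-! The set-up for the `J(T)`-component rows inside a subgroup `L` with Sylow 2-subgroup `T`:
transfer between subgroups of `G` contained in `L` and the group `↥L`. -/

set_option autoImplicit false

namespace Cfsg.Agent.Lib.Helper6.JL

open Cfsg Cfsg.Agent.Lib.Helper9 Cfsg.Agent.Lib.Helper6 Cfsg.Agent.Lib.Helper6.JC
open Cfsg.Agent.Lib.Helper2.OmegaZ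
open scoped commutatorElement

variable {G : Type*} [Group G]

/-- `T` is a Sylow 2-subgroup of the solvable subgroup `L` of characteristic 2, and `L` has the
`Z`-property `C_L(Ω₁(Z(T))) ≤ N_L(T)` -/
structure LCtx (T L : Subgroup G) : Prop where
  hTL : T ≤ L
  hT2 : IsPGroup 2 T
  hodd : Odd (T.relIndex L)
  hchar : Subgroup.centralizer (pCoreOf 2 L : Set G) ≤ pCoreOf 2 L
  hsolv : Group.IsSolvable ↥L
  hZ : L ⊓ Subgroup.centralizer (omegaCenterOf T : Set G) ≤ Subgroup.normalizer (T : Set G)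

/-- `V = ⟨Ω₁(Z(S)) | S ∈ Syl₂(L)⟩` as a subgroup of `G` -/
def vOf (L : Subgroup G) : Subgroup G := (VV 2 ↥L).map L.subtype

/-- `C_L(V)` -/
def cOf (L : Subgroup G) : Subgroup G := L ⊓ Subgroup.centralizer (vOf L : Set G)

/-- `J(L)` as a subgroup of `G` -/
def jOf (L : Subgroup G) : Subgroup G := (thompsonSubgroup 2 ↥L).map L.subtype

theorem vOf_le (L : Subgroup G) : vOf L ≤ L := Subgroup.map_subtype_le _

theorem jOf_le (L : Subgroup G) : jOf L ≤ L := Subgroup.map_subtype_le _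

theorem cOf_le (L : Subgroup G) : cOf L ≤ L := inf_le_left

theorem mem_vOf_iff {L : Subgroup G} {x : G} (hx : x ∈ L) :
    x ∈ vOf L ↔ (⟨x, hx⟩ : ↥L) ∈ VV 2 ↥L := by
  unfold vOf
  constructor
  · rintro ⟨y, hy, rfl⟩
    exact hy
  · intro h
    exact ⟨⟨x, hx⟩, h, rfl⟩

theorem mem_jOf_iff {L : Subgroup G} {x : G} (hx : x ∈ L) :
    x ∈ jOf L ↔ (⟨x, hx⟩ : ↥L) ∈ thompsonSubgroup 2 ↥L := by
  unfold jOf
  constructor
  · rintro ⟨y, hy, rfl⟩
    exact hy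
  · intro h
    exact ⟨⟨x, hx⟩, h, rfl⟩

/-- a normal subgroup of `↥L` maps to a subgroup of `G` normalized by `L` -/
theorem conj_mem_map_subtype_of_normal {L : Subgroup G} (N : Subgroup ↥L) [hN : N.Normal] {l x : G}
    (hl : l ∈ L) (hx : x ∈ N.map L.subtype) : l * x * l⁻¹ ∈ N.map L.subtype := by
  obtain ⟨y, hy, rfl⟩ := hx
  refine ⟨⟨l, hl⟩ * y * ⟨l, hl⟩⁻¹, hN.conj_mem y hy ⟨l, hl⟩, ?_⟩
  simp

theorem conj_mem_vOf {L : Subgroup G} [Finite G] {l x : G} (hl : l ∈ L) (hx : x ∈ vOf L) :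
    l * x * l⁻¹ ∈ vOf L := by
  haveI : Fact (Nat.Prime 2) := ⟨Nat.prime_two⟩
  haveI : (VV 2 ↥L).Normal := VV_normal
  exact conj_mem_map_subtype_of_normal (VV 2 ↥L) hl hx

theorem conj_mem_jOf {L : Subgroup G} {l x : G} (hl : l ∈ L) (hx : x ∈ jOf L) :
    l * x * l⁻¹ ∈ jOf L := by
  haveI : (thompsonSubgroup 2 ↥L).Normal := Cfsg.Agent.Lib.Lead.Holo.thompsonSubgroup_normal 2
  exact conj_mem_map_subtype_of_normal (thompsonSubgroup 2 ↥L) hl hx

theorem conj_mem_cOf {L : Subgroup G} [Finite G] {l x : G} (hl : l ∈ L) (hx : x ∈ cOf L) :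
    l * x * l⁻¹ ∈ cOf L := by
  obtain ⟨hxL, hxc⟩ := Subgroup.mem_inf.mp hx
  refine Subgroup.mem_inf.mpr ⟨L.mul_mem (L.mul_mem hl hxL) (L.inv_mem hl), ?_⟩
  rw [Subgroup.mem_centralizer_iff]
  intro v hv
  have hv' : l⁻¹ * v * l ∈ vOf L := by
    have := conj_mem_vOf (L.inv_mem hl) hv
    simpa using this
  have hc := (Subgroup.mem_centralizer_iff.mp hxc) _ hv'
  calc v * (l * x * l⁻¹) = l * ((l⁻¹ * v * l) * x) * l⁻¹ := by group
    _ = l * (x * (l⁻¹ * v * l)) * l⁻¹ := by rw [hc]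
    _ = l * x * l⁻¹ * v := by group

section

variable [Finite G] {T L : Subgroup G} (h : LCtx T L)
include h

/-- the Sylow 2-subgroup of `↥L` given by `T` -/
noncomputable def LCtx.sylow : Sylow 2 ↥L :=
  haveI : Fact (Nat.Prime 2) := ⟨Nat.prime_two⟩
  (h.hT2.comap_subtype : IsPGroup 2 (T.subgroupOf L)).toSylow (by
    show ¬ 2 ∣ T.relIndex L
    have := h.hodd
    rw [← Nat.not_even_iff_odd, even_iff_two_dvd] at this
    exact this)

theorem LCtx.coe_sylow : ((h.sylow : Sylow 2 ↥L) : Subgroup ↥L) = T.subgroupOf L := rfl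

theorem LCtx.pCoreOf_le_T : pCoreOf 2 L ≤ T := by
  have h1 := pCoreOf_le_sylow_map L h.sylow
  rw [h.coe_sylow, Subgroup.subgroupOf_map_subtype] at h1
  exact h1.trans inf_le_left

theorem LCtx.hc' : Subgroup.centralizer (pCore 2 ↥L : Set ↥L) ≤ pCore 2 ↥L := by
  intro x hx
  have hxc : (x : G) ∈ Subgroup.centralizer (pCoreOf 2 L : Set G) := by
    rw [Subgroup.mem_centralizer_iff]
    rintro _ ⟨y, hy, rfl⟩
    have := (Subgroup.mem_centralizer_iff.mp hx) y hy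
    exact congrArg Subtype.val this
  obtain ⟨y, hy, hyx⟩ := h.hchar hxc
  have : y = x := Subtype.ext hyx
  rw [← this]; exact hy

theorem LCtx.isPSolvable : IsPSolvable 2 ↥L := by
  haveI : Fact (Nat.Prime 2) := ⟨Nat.prime_two⟩
  haveI := h.hsolv
  exact Cfsg.Agent.Lib.Lead.SolvPSolv.isPSolvable_of_isSolvable' 2 ↥L

theorem LCtx.vOf_isEA : IsElementaryAbelian 2 (vOf L) := by
  haveI : Fact (Nat.Prime 2) := ⟨Nat.prime_two⟩
  exact isElementaryAbelian_map (isEA_of_le_omegaZ _ (VV_le_omegaZ h.hc')) _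

/-- `V ≤ Ω₁(Z(O₂(L)))` -/
theorem LCtx.vOf_le_pCoreOf : vOf L ≤ pCoreOf 2 L := by
  haveI : Fact (Nat.Prime 2) := ⟨Nat.prime_two⟩
  rintro _ ⟨y, hy, rfl⟩
  have := VV_le_omegaZ h.hc' hy
  exact ⟨y, (Subgroup.mem_inf.mp this.1).1, rfl⟩

theorem LCtx.pCoreOf_comm_vOf {q v : G} (hq : q ∈ pCoreOf 2 L) (hv : v ∈ vOf L) : q * v = v * q := by
  haveI : Fact (Nat.Prime 2) := ⟨Nat.prime_two⟩
  obtain ⟨y, hy, rfl⟩ := hv
  obtain ⟨z, hz, rfl⟩ := hq
  have h1 := VV_le_omegaZ h.hc' hy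
  have h2 := (Subgroup.mem_centralizer_iff.mp (Subgroup.mem_inf.mp h1.1).2) z hz
  exact congrArg Subtype.val h2

theorem LCtx.pCoreOf_le_cOf : pCoreOf 2 L ≤ cOf L := by
  intro q hq
  refine Subgroup.mem_inf.mpr ⟨pCoreOf_le L hq, ?_⟩
  rw [Subgroup.mem_centralizer_iff]
  intro v hv
  exact (h.pCoreOf_comm_vOf hq hv).symm

/-- `Ω₁(Z(T)) ≤ V` -/
theorem LCtx.omegaCenterOf_le_vOf : omegaCenterOf T ≤ vOf L := by
  unfold omegaCenterOf omegaOne
  rw [Subgroup.closure_le]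
  rintro x ⟨hxT, hx2⟩
  have hxL : x ∈ L := h.hTL (Subgroup.mem_inf.mp hxT).1
  rw [SetLike.mem_coe, mem_vOf_iff hxL]
  have hmem : (⟨x, hxL⟩ : ↥L) ∈ WS 2 ((h.sylow : Sylow 2 ↥L) : Subgroup ↥L) := by
    unfold WS omegaOne
    apply Subgroup.subset_closure
    refine ⟨Subgroup.mem_inf.mpr ⟨?_, ?_⟩, ?_⟩
    · rw [h.coe_sylow, Subgroup.mem_subgroupOf]
      exact (Subgroup.mem_inf.mp hxT).1
    · rw [Subgroup.mem_centralizer_iff]
      intro y hy
      rw [SetLike.mem_coe, h.coe_sylow, Subgroup.mem_subgroupOf] at hy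
      apply Subtype.ext
      exact (Subgroup.mem_centralizer_iff.mp (Subgroup.mem_inf.mp hxT).2) y hy
    · apply Subtype.ext
      simpa using hx2
  exact (le_iSup (fun S : Sylow 2 ↥L => WS 2 (S : Subgroup ↥L)) h.sylow) hmem

theorem LCtx.cOf_le_normalizer : cOf L ≤ Subgroup.normalizer (T : Set G) := by
  intro c hc
  apply h.hZ
  refine Subgroup.mem_inf.mpr ⟨cOf_le L hc, ?_⟩
  rw [Subgroup.mem_centralizer_iff]
  intro z hz
  exact (Subgroup.mem_centralizer_iff.mp (Subgroup.mem_inf.mp hc).2) z (h.omegaCenterOf_le_vOf hz)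

end

end Cfsg.Agent.Lib.Helper6.JL
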