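import Mathlib
import Cfsg.Agent.Lib.Helper6.JL.JL1

/-! Sylow conjugacy inside `L`; `𝒜(T) ⊆ 𝒜(L)`; consequences of the `Z`-property:
`T ∩ C_L(V) = O₂(L)`, `[C_L(V), J(L)] ≤ O₂(L)`. -/

set_option autoImplicit false

namespace Cfsg.Agent.Lib.Helper6.JL

open Cfsg Cfsg.Agent.Lib.Helper9 Cfsg.Agent.Lib.Helper6 Cfsg.Agent.Lib.Helper6.JC
open Cfsg.Agent.Lib.Helper2.OmegaZ
open scoped commutatorElement Pointwise

variable {G : Type*} [Group G]

section

variable [Finite G] {T L : Subgroup G} (h : LCtx T L)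
include h

/-- a 2-subgroup of `L` is conjugate in `L` into `T` -/
theorem LCtx.exists_conj_le {P : Subgroup G} (hPL : P ≤ L) (hP : IsPGroup 2 P) :
    ∃ l ∈ L, ∀ x ∈ P, l⁻¹ * x * l ∈ T := by
  haveI : Fact (Nat.Prime 2) := ⟨Nat.prime_two⟩
  have hP' : IsPGroup 2 (P.subgroupOf L) := hP.comap_subtype
  obtain ⟨R, hR⟩ := hP'.exists_le_sylow
  obtain ⟨l, hl⟩ := MulAction.exists_smul_eq ↥L h.sylow R
  refine ⟨(l : G), l.2, fun x hx => ?_⟩
  have hxR : (⟨x, hPL hx⟩ : ↥L) ∈ R := hR (Subgroup.mem_subgroupOf.mpr hx)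
  have hxR' : (⟨x, hPL hx⟩ : ↥L) ∈ ((l • h.sylow : Sylow 2 ↥L) : Subgroup ↥L) := by
    rw [hl]; exact hxR
  rw [Sylow.coe_subgroup_smul, Subgroup.mem_pointwise_smul_iff_inv_smul_mem] at hxR'
  have h2 : l⁻¹ * (⟨x, hPL hx⟩ : ↥L) * l ∈ ((h.sylow : Sylow 2 ↥L) : Subgroup ↥L) := by
    simpa [MulAut.smul_def, MulAut.conj_apply] using hxR'
  rw [h.coe_sylow, Subgroup.mem_subgroupOf] at h2
  simpa using h2

omit h in
theorem isPGroup_of_isElementaryAbelian {H : Type*} [Group H] {B : Subgroup H}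
    (hB : IsElementaryAbelian 2 B) : IsPGroup 2 B := by
  intro b
  refine ⟨1, ?_⟩
  apply Subtype.ext
  simpa using hB.2 b b.2

/-- `𝒜(T) ⊆ 𝒜(L)` -/
theorem LCtx.maxEA_subgroupOf {A : Subgroup G} (hA : A ∈ maxEA 2 T) :
    A.subgroupOf L ∈ maxElementaryAbelianSubgroups 2 ↥L := by
  obtain ⟨hAT, hAe, hAmax⟩ := hA
  refine ⟨isElementaryAbelian_subgroupOf hAe L, ?_⟩
  intro B' hB'
  rw [card_subgroupOf_of_le (hAT.trans h.hTL), ← card_map_subtype L B']
  set B : Subgroup G := B'.map L.subtype with hB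
  have hBL : B ≤ L := Subgroup.map_subtype_le _
  have hBe : IsElementaryAbelian 2 B := isElementaryAbelian_map hB' _
  obtain ⟨l, hl, hconj⟩ := h.exists_conj_le hBL (isPGroup_of_isElementaryAbelian hBe)
  have hle : B.map (MulAut.conj l⁻¹).toMonoidHom ≤ T := by
    rintro _ ⟨x, hx, rfl⟩
    have := hconj x hx
    simpa [MulAut.conj_apply] using this
  have := hAmax _ hle (isElementaryAbelian_map_conj hBe l⁻¹)
  rwa [card_map_conj] at this

/-- `J(T) ≤ J(L)` -/
theorem LCtx.thompson_le_jOf : thompsonSubgroupOf 2 T ≤ jOf L := by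
  rw [thompsonSubgroupOf_eq]
  apply sSup_le
  intro A hA
  have h1 := h.maxEA_subgroupOf hA
  have h2 : A.subgroupOf L ≤ thompsonSubgroup 2 ↥L := le_sSup h1
  intro a ha
  exact ⟨⟨a, h.hTL (hA.1 ha)⟩, h2 (Subgroup.mem_subgroupOf.mpr ha), rfl⟩

/-- a subgroup normalized by `L` and containing `T` contains every 2-subgroup of `L` -/
theorem LCtx.le_of_normal {N P : Subgroup G} (hN : ∀ l ∈ L, ∀ x ∈ N, l * x * l⁻¹ ∈ N) (hTN : T ≤ N)
    (hPL : P ≤ L) (hP : IsPGroup 2 P) : P ≤ N := by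
  obtain ⟨l, hl, hconj⟩ := h.exists_conj_le hPL hP
  intro x hx
  have h1 := hN l hl _ (hTN (hconj x hx))
  have e : l * (l⁻¹ * x * l) * l⁻¹ = x := by group
  rwa [e] at h1

/-- `T ∩ C_L(V) = O₂(L)` -/
theorem LCtx.inf_cOf : T ⊓ cOf L = pCoreOf 2 L := by
  haveI : Fact (Nat.Prime 2) := ⟨Nat.prime_two⟩
  apply le_antisymm
  · -- `T ∩ C` is a 2-subgroup of `L` normalized by `L`
    set R : Subgroup G := T ⊓ cOf L with hR
    have hRL : R ≤ L := inf_le_left.trans h.hTL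
    have hR2 : IsPGroup 2 R := h.hT2.to_le inf_le_left
    -- every 2-subgroup of `C` lies in `R`
    have hkey : ∀ P : Subgroup G, P ≤ cOf L → IsPGroup 2 P → P ≤ R := by
      intro P hPC hP
      obtain ⟨l, hl, hconj⟩ := h.exists_conj_le (hPC.trans (cOf_le L)) hP
      -- `P^{l⁻¹} ≤ T ∩ C = R`, and `C` normalizes `T`... use: `l = c t`? instead conjugate back
      -- `l⁻¹ P l ≤ T` and `≤ C`; so `P ≤ l R l⁻¹`; compare orders via `P R`
      intro x hx
      have hxR' : l⁻¹ * x * l ∈ R := by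
        refine Subgroup.mem_inf.mpr ⟨hconj x hx, ?_⟩
        have := conj_mem_cOf (L.inv_mem hl) (hPC hx)
        simpa using this
      -- `x ∈ C` normalizes `T`, so `x` normalizes `R`; `⟨x⟩R` is a 2-group containing `R`
      -- we show `x ∈ T` using: `T ⊔ zpowers x` is a 2-subgroup of `L` containing `T`
      have hxN : x ∈ Subgroup.normalizer (T : Set G) := h.cOf_le_normalizer (hPC hx)
      have hx2 : IsPGroup 2 (Subgroup.zpowers x) := hP.to_le (Subgroup.zpowers_le.mpr hx)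
      have hsup2 : IsPGroup 2 (Subgroup.zpowers x ⊔ T : Subgroup G) :=
        IsPGroup.to_sup_of_normal_right' hx2 h.hT2 (Subgroup.zpowers_le.mpr hxN)
      have hsupL : Subgroup.zpowers x ⊔ T ≤ L :=
        sup_le (Subgroup.zpowers_le.mpr (cOf_le L (hPC hx))) h.hTL
      -- `T` is Sylow in `L`
      have hmax : Subgroup.zpowers x ⊔ T ≤ T := by
        have h3 : IsPGroup 2 ((Subgroup.zpowers x ⊔ T).subgroupOf L) := hsup2.comap_subtype
        have h4 : ((h.sylow : Sylow 2 ↥L) : Subgroup ↥L) ≤ (Subgroup.zpowers x ⊔ T).subgroupOf L := by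
          rw [h.coe_sylow]
          exact Subgroup.subgroupOf_mono L le_sup_right
        have h5 := (h.sylow).is_maximal' h3 h4
        intro y hy
        have hyL : y ∈ L := hsupL hy
        have : (⟨y, hyL⟩ : ↥L) ∈ (Subgroup.zpowers x ⊔ T).subgroupOf L :=
          Subgroup.mem_subgroupOf.mpr hy
        rw [h5, h.coe_sylow, Subgroup.mem_subgroupOf] at this
        exact this
      exact Subgroup.mem_inf.mpr ⟨hmax ((le_sup_left : Subgroup.zpowers x ≤ _)
        (Subgroup.mem_zpowers x)), hPC hx⟩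
    -- `R` is normalized by `L`
    have hRn : ∀ l ∈ L, ∀ x ∈ R, l * x * l⁻¹ ∈ R := by
      intro l hl x hx
      have hmapC : R.map (MulAut.conj l).toMonoidHom ≤ cOf L := by
        rintro _ ⟨y, hy, rfl⟩
        show (MulAut.conj l) y ∈ cOf L
        rw [MulAut.conj_apply]
        exact conj_mem_cOf hl (Subgroup.mem_inf.mp hy).2
      exact hkey _ hmapC (hR2.map _) (conj_mem_map_conj R l hx)
    -- so `R ≤ O₂(L)`
    intro x hx
    have hsub : (R.subgroupOf L) ≤ pCore 2 ↥L := by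
      apply le_pCore
      · exact ⟨fun n hn g => by
          rw [Subgroup.mem_subgroupOf] at hn ⊢
          simpa using hRn g g.2 n hn⟩
      · exact hR2.comap_subtype
    exact ⟨⟨x, hRL hx⟩, hsub (Subgroup.mem_subgroupOf.mpr hx), rfl⟩
  · exact le_inf h.pCoreOf_le_T h.pCoreOf_le_cOf

end

end Cfsg.Agent.Lib.Helper6.JL
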