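import Mathlib
import Cfsg.Agent.Lib.Helper6.JL.JL2
import Cfsg.Agent.Lib.Lead.Subnormalizer1

/-! `LCtx T L` from the hypotheses of the `J(T)`-component rows; `[C_L(V), J(L)] ≤ O₂(L)`;
2-subgroups of `C_L(V)` lie in `O₂(L)`. -/

set_option autoImplicit false

namespace Cfsg.Agent.Lib.Helper6.JL

open Cfsg Cfsg.Agent.Lib.Helper9 Cfsg.Agent.Lib.Helper6 Cfsg.Agent.Lib.Helper6.JC
open Cfsg.Agent.Lib.Helper2.OmegaZ
open scoped commutatorElement Pointwise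

variable {G : Type*} [Group G]

/-- a 2-subgroup of `L` containing the Sylow 2-subgroup `T` of `L` equals `T` -/
theorem eq_of_isSylowTwoIn [Finite G] {T L P : Subgroup G} (hT : IsSylowTwoIn T L) (hTP : T ≤ P)
    (hPL : P ≤ L) (hP : IsPGroup 2 P) : P = T := by
  haveI : Fact (Nat.Prime 2) := ⟨Nat.prime_two⟩
  obtain ⟨hTL, hT2, hodd⟩ := hT
  have h1 := Subgroup.relIndex_mul_relIndex T P L hTP hPL
  have hoddTP : Odd (T.relIndex P) := by
    rw [← h1] at hodd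
    exact (Nat.odd_mul.mp hodd).1
  have hdvd : T.relIndex P ∣ Nat.card P := by
    unfold Subgroup.relIndex
    exact Subgroup.index_dvd_card _
  obtain ⟨n, hn⟩ := (IsPGroup.iff_card).mp hP
  rw [hn] at hdvd
  obtain ⟨m, -, hm⟩ := (Nat.dvd_prime_pow Nat.prime_two).mp hdvd
  have hm0 : m = 0 := by
    by_contra hne
    rw [hm] at hoddTP
    have : Even (2 ^ m) := (Nat.even_pow' hne).mpr even_two
    exact (Nat.not_even_iff_odd.mpr hoddTP) this
  rw [hm0, pow_zero] at hm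
  exact le_antisymm (Subgroup.relIndex_eq_one.mp hm) hTP

theorem conj_mem_pCoreOf {L : Subgroup G} {l q : G} (hl : l ∈ L) (hq : q ∈ pCoreOf 2 L) :
    l * q * l⁻¹ ∈ pCoreOf 2 L :=
  (Subgroup.mem_normalizer_iff.mp
    (Cfsg.Agent.Lib.Lead.Subnormalizer.le_normalizer_pCoreOf 2 L hl) q).mp hq

/-- the context from the hypotheses of the `J(T)`-component rows -/
theorem lctx_of_mem_jOvergroups [Finite G]
    (hN : ∀ N : Subgroup G, IsTwoLocal N → Group.IsSolvable ↥N)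
    (hZ : ∀ S : Sylow 2 G, Subgroup.centralizer (omegaCenterOf (S : Subgroup G) : Set G) ≤
      Subgroup.normalizer ((S : Subgroup G) : Set G))
    {T : Subgroup G} (hT1 : T ≠ ⊥) {L : Subgroup G} (hLT : L ∈ jOvergroups T) : LCtx T L := by
  haveI : Fact (Nat.Prime 2) := ⟨Nat.prime_two⟩
  obtain ⟨hsyl, -, hchar⟩ := hLT
  have hsyl' := hsyl
  obtain ⟨hTL, hT2, hodd⟩ := hsyl
  -- `O₂(L) ≠ 1`
  have hQ1 : pCoreOf 2 L ≠ ⊥ := by
    intro h0
    apply hT1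
    rw [eq_bot_iff]
    intro x _
    have : x ∈ Subgroup.centralizer ((pCoreOf 2 L : Subgroup G) : Set G) := by
      rw [Subgroup.mem_centralizer_iff]
      intro y hy
      rw [SetLike.mem_coe, h0, Subgroup.mem_bot] at hy
      rw [hy]; simp
    have := hchar this
    rwa [h0] at this
  have hQT : pCoreOf 2 L ≤ T := by
    -- `T O₂(L)` is a 2-subgroup of `L` containing `T`
    have hnorm : T ≤ Subgroup.normalizer ((pCoreOf 2 L : Subgroup G) : Set G) :=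
      hTL.trans (Cfsg.Agent.Lib.Lead.Subnormalizer.le_normalizer_pCoreOf 2 L)
    have h2 : IsPGroup 2 (T ⊔ pCoreOf 2 L : Subgroup G) :=
      IsPGroup.to_sup_of_normal_right' hT2 (pCoreOf_isPGroup 2 L) hnorm
    have := eq_of_isSylowTwoIn hsyl' le_sup_left (sup_le hTL (pCoreOf_le L)) h2
    rw [← this]; exact le_sup_right
  refine ⟨hTL, hT2, hodd, hchar, ?_, ?_⟩
  · -- solvable
    have hloc : IsTwoLocal (Subgroup.normalizer ((pCoreOf 2 L : Subgroup G) : Set G)) :=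
      ⟨pCoreOf 2 L, pCoreOf_isPGroup 2 L, hQ1, rfl⟩
    haveI := hN _ hloc
    exact solvable_of_solvable_injective
      (Subgroup.inclusion_injective (Cfsg.Agent.Lib.Lead.Subnormalizer.le_normalizer_pCoreOf 2 L))
  · -- the `Z`-property
    obtain ⟨S, hTS⟩ := hT2.exists_le_sylow
    have hcen : (S : Subgroup G) ⊓ Subgroup.centralizer ((S : Subgroup G) : Set G) ≤
        T ⊓ Subgroup.centralizer (T : Set G) := by
      intro x hx
      obtain ⟨hxS, hxc⟩ := Subgroup.mem_inf.mp hx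
      have hxQ : x ∈ Subgroup.centralizer ((pCoreOf 2 L : Subgroup G) : Set G) := by
        rw [Subgroup.mem_centralizer_iff]
        intro q hq
        exact (Subgroup.mem_centralizer_iff.mp hxc) q (hTS (hQT hq))
      refine Subgroup.mem_inf.mpr ⟨hQT (hchar hxQ), ?_⟩
      rw [Subgroup.mem_centralizer_iff]
      intro t ht
      exact (Subgroup.mem_centralizer_iff.mp hxc) t (hTS ht)
    have hom : omegaCenterOf (S : Subgroup G) ≤ omegaCenterOf T := by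
      unfold omegaCenterOf omegaOne
      apply Subgroup.closure_mono
      rintro x ⟨hx, hxp⟩
      exact ⟨hcen hx, hxp⟩
    intro x hx
    obtain ⟨hxL, hxc⟩ := Subgroup.mem_inf.mp hx
    have hxS : x ∈ Subgroup.normalizer ((S : Subgroup G) : Set G) :=
      hZ S (Subgroup.centralizer_le hom hxc)
    have hST : (S : Subgroup G) ⊓ L = T :=
      eq_of_isSylowTwoIn hsyl' (le_inf hTS hTL) inf_le_right (S.isPGroup'.to_le inf_le_left)
    rw [Subgroup.mem_normalizer_iff]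
    intro t
    rw [← hST, Subgroup.mem_inf, Subgroup.mem_inf, ← Subgroup.mem_normalizer_iff.mp hxS t]
    constructor
    · rintro ⟨h1, h2⟩
      exact ⟨h1, L.mul_mem (L.mul_mem hxL h2) (L.inv_mem hxL)⟩
    · rintro ⟨h1, h2⟩
      refine ⟨h1, ?_⟩
      have := L.mul_mem (L.mul_mem (L.inv_mem hxL) h2) hxL
      have e : x⁻¹ * (x * t * x⁻¹) * x = t := by group
      rwa [e] at this

section

variable [Finite G] {T L : Subgroup G} (h : LCtx T L)
include h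

/-- every 2-subgroup of `C_L(V)` lies in `O₂(L)` -/
theorem LCtx.le_pCoreOf_of_le_cOf {P : Subgroup G} (hPC : P ≤ cOf L) (hP : IsPGroup 2 P) :
    P ≤ pCoreOf 2 L := by
  obtain ⟨l, hl, hconj⟩ := h.exists_conj_le (hPC.trans (cOf_le L)) hP
  intro x hx
  have h1 : l⁻¹ * x * l ∈ pCoreOf 2 L := by
    rw [← h.inf_cOf]
    refine Subgroup.mem_inf.mpr ⟨hconj x hx, ?_⟩
    have := conj_mem_cOf (L.inv_mem hl) (hPC hx)
    simpa using this
  have := conj_mem_pCoreOf hl h1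
  have e : l * (l⁻¹ * x * l) * l⁻¹ = x := by group
  rwa [e] at this

/-- an element of `C_L(V)` of 2-power order lies in `O₂(L)` -/
theorem LCtx.mem_pCoreOf_of_pow {c : G} (hc : c ∈ cOf L) {n : ℕ} (hn : c ^ 2 ^ n = 1) :
    c ∈ pCoreOf 2 L := by
  apply h.le_pCoreOf_of_le_cOf (Subgroup.zpowers_le.mpr hc) _ (Subgroup.mem_zpowers c)
  haveI : Fact (Nat.Prime 2) := ⟨Nat.prime_two⟩
  rw [IsPGroup.iff_card, Nat.card_zpowers]
  exact (Nat.dvd_prime_pow Nat.prime_two).mp (orderOf_dvd_of_pow_eq_one hn) |>.imp fun m hm => hm.2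

/-- `[T, C_L(V)] ≤ O₂(L)` -/
theorem LCtx.comm_T_cOf {t c : G} (ht : t ∈ T) (hc : c ∈ cOf L) :
    t * c * t⁻¹ * c⁻¹ ∈ pCoreOf 2 L := by
  rw [← h.inf_cOf]
  refine Subgroup.mem_inf.mpr ⟨?_, ?_⟩
  · have h1 : c * t⁻¹ * c⁻¹ ∈ T :=
      (Subgroup.mem_normalizer_iff.mp (h.cOf_le_normalizer hc) t⁻¹).mp (T.inv_mem ht)
    have e : t * c * t⁻¹ * c⁻¹ = t * (c * t⁻¹ * c⁻¹) := by group
    rw [e]; exact T.mul_mem ht h1
  · exact (cOf L).mul_mem (conj_mem_cOf (h.hTL ht) hc) ((cOf L).inv_mem hc)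

/-- the subgroup of `L` of the elements commuting with `C_L(V)` modulo `O₂(L)` -/
def n0Of (L : Subgroup G) : Subgroup G where
  carrier := {x | x ∈ L ∧ ∀ c ∈ cOf L, x * c * x⁻¹ * c⁻¹ ∈ pCoreOf 2 L}
  one_mem' := ⟨L.one_mem, fun c _ => by simp⟩
  mul_mem' := by
    rintro x y ⟨hx, hxc⟩ ⟨hy, hyc⟩
    refine ⟨L.mul_mem hx hy, fun c hc => ?_⟩
    have e : x * y * c * (x * y)⁻¹ * c⁻¹ = (x * (y * c * y⁻¹ * c⁻¹) * x⁻¹) * (x * c * x⁻¹ * c⁻¹) := by
      group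
    rw [e]
    exact (pCoreOf 2 L).mul_mem (conj_mem_pCoreOf hx (hyc c hc)) (hxc c hc)
  inv_mem' := by
    rintro x ⟨hx, hxc⟩
    refine ⟨L.inv_mem hx, fun c hc => ?_⟩
    have e : x⁻¹ * c * x⁻¹⁻¹ * c⁻¹ = x⁻¹ * (x * c * x⁻¹ * c⁻¹)⁻¹ * x⁻¹⁻¹ := by group
    rw [e]
    exact conj_mem_pCoreOf (L.inv_mem hx) ((pCoreOf 2 L).inv_mem (hxc c hc))

omit h in
theorem n0Of_le (L : Subgroup G) : n0Of L ≤ L := fun _ hx => hx.1

omit h in
theorem conj_mem_n0Of {l x : G} (hl : l ∈ L) (hx : x ∈ n0Of L) : l * x * l⁻¹ ∈ n0Of L := by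
  obtain ⟨hxL, hxc⟩ := hx
  refine ⟨L.mul_mem (L.mul_mem hl hxL) (L.inv_mem hl), fun c hc => ?_⟩
  have hc' : l⁻¹ * c * l ∈ cOf L := by
    have := conj_mem_cOf (L.inv_mem hl) hc
    simpa using this
  have e : l * x * l⁻¹ * c * (l * x * l⁻¹)⁻¹ * c⁻¹ =
      l * (x * (l⁻¹ * c * l) * x⁻¹ * (l⁻¹ * c * l)⁻¹) * l⁻¹ := by group
  rw [e]
  exact conj_mem_pCoreOf hl (hxc _ hc')

theorem LCtx.T_le_n0Of : T ≤ n0Of L := fun _ ht => ⟨h.hTL ht, fun _ hc => h.comm_T_cOf ht hc⟩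

/-- `J(L) ≤ N₀` -/
theorem LCtx.jOf_le_n0Of : jOf L ≤ n0Of L := by
  unfold jOf
  rw [Subgroup.map_le_iff_le_comap]
  unfold thompsonSubgroup
  apply sSup_le
  intro A hA
  rw [← Subgroup.map_le_iff_le_comap]
  apply h.le_of_normal (fun l hl x hx => conj_mem_n0Of hl hx) h.T_le_n0Of (Subgroup.map_subtype_le _)
  exact isPGroup_of_isElementaryAbelian (isElementaryAbelian_map hA.1 _)

/-- `[J(L), C_L(V)] ≤ O₂(L)` -/
theorem LCtx.comm_jOf_cOf {x c : G} (hx : x ∈ jOf L) (hc : c ∈ cOf L) :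
    x * c * x⁻¹ * c⁻¹ ∈ pCoreOf 2 L := (h.jOf_le_n0Of hx).2 c hc

end

end Cfsg.Agent.Lib.Helper6.JL
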