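import Mathlib
import Cfsg.Agent.Lib.Helper6.JL.JL3

/-! A `J(T)`-component `K` inside `L ∈ 𝓛(T)`: `K ≤ J(L)`, `W_K ≤ V`, `O₂(L)` normalizes `K`,
`K ∩ C_L(V) ≤ O₂(K)`. -/

set_option autoImplicit false

namespace Cfsg.Agent.Lib.Helper6.JL

open Cfsg Cfsg.Agent.Lib.Helper9 Cfsg.Agent.Lib.Helper6 Cfsg.Agent.Lib.Helper6.JC
open Cfsg.Agent.Lib.Helper2.OmegaZ
open scoped commutatorElement Pointwise

variable {G : Type*} [Group G]

theorem exists_maxEA [Finite G] (P : Subgroup G) : ∃ A, A ∈ maxEA 2 P := by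
  have hne : ({A : Subgroup G | A ≤ P ∧ IsElementaryAbelian 2 A} : Set (Subgroup G)).Nonempty := by
    refine ⟨⊥, bot_le, isElementaryAbelian_iff_forall.mpr ⟨?_, ?_⟩⟩
    · intro a ha b hb
      rw [Subgroup.mem_bot] at ha hb
      rw [ha, hb]
    · intro a ha
      rw [Subgroup.mem_bot] at ha
      rw [ha, one_pow]
  obtain ⟨A, hA, hmax⟩ := Set.exists_max_image _ (fun A : Subgroup G => Nat.card A)
    (Set.toFinite _) hne
  exact ⟨A, hA.1, hA.2, fun B hB hBe => hmax B ⟨hB, hBe⟩⟩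

/-- `𝒜(S) = 𝒜(T)` if `J(S) = J(T)` -/
theorem maxEA_of_thompson_eq [Finite G] {S T A : Subgroup G}
    (hST : thompsonSubgroupOf 2 S = thompsonSubgroupOf 2 T) (hA : A ∈ maxEA 2 S) : A ∈ maxEA 2 T := by
  have hAJ : A ≤ thompsonSubgroupOf 2 T := by
    rw [← hST, thompsonSubgroupOf_eq]; exact le_sSup hA
  refine ⟨hAJ.trans (thompsonSubgroupOf_le 2 T), hA.2.1, ?_⟩
  intro B hB hBe
  obtain ⟨A', hA'⟩ := exists_maxEA T
  have h1 := hA'.2.2 B hB hBe
  have hA'S : A' ≤ S := by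
    have : A' ≤ thompsonSubgroupOf 2 T := by
      rw [thompsonSubgroupOf_eq]; exact le_sSup hA'
    rw [← hST] at this
    exact this.trans (thompsonSubgroupOf_le 2 S)
  exact h1.trans (hA.2.2 A' hA'S hA'.2.1)

theorem thompsonSubgroupOf_map_conj [Finite G] (P : Subgroup G) (k : G) :
    (thompsonSubgroupOf 2 P).map (MulAut.conj k).toMonoidHom =
      thompsonSubgroupOf 2 (P.map (MulAut.conj k).toMonoidHom) := by
  have hle := thompson_conj_le (p := 2) P k k (Subgroup.map_mono (thompsonSubgroupOf_le 2 P))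
  apply Subgroup.eq_of_le_of_card_ge hle
  rw [card_thompson_conj, Cfsg.Agent.Lib.Helper9.card_map_conj]

theorem normalizer_le_normalizer_thompson [Finite G] (T : Subgroup G) :
    Subgroup.normalizer (T : Set G) ≤ Subgroup.normalizer ((thompsonSubgroupOf 2 T : Subgroup G) : Set G) := by
  intro x hx
  have hT : T.map (MulAut.conj x).toMonoidHom = T := by
    apply le_antisymm
    · rintro _ ⟨t, ht, rfl⟩
      exact (Subgroup.mem_normalizer_iff.mp hx t).mp ht
    · intro t ht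
      refine ⟨x⁻¹ * t * x, ?_, ?_⟩
      · have := (Subgroup.mem_normalizer_iff.mp (Subgroup.inv_mem _ hx) t).mp ht
        simpa using this
      · simp [MulAut.conj_apply]; group
  have h1 := thompsonSubgroupOf_map_conj T x
  rw [hT] at h1
  apply Subgroup.mem_normalizer_fintype
  intro j hj
  rw [← h1]
  exact ⟨j, hj, rfl⟩

/-- `K` is a `J(T)`-component (with auxiliary Sylow 2-subgroup `S` of `⟨K, J(T)⟩`) inside `L` -/
structure KLCtx (T L K S : Subgroup G) : Prop where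
  hL : LCtx T L
  hJ : JCtx K (thompsonSubgroupOf 2 T) S
  hKL : K ≤ L

section

variable [Finite G] {T L K S : Subgroup G} (h : KLCtx T L K S)
include h

theorem KLCtx.J_le_T : thompsonSubgroupOf 2 T ≤ T := thompsonSubgroupOf_le 2 T

theorem KLCtx.J_le_L : thompsonSubgroupOf 2 T ≤ L := h.J_le_T.trans h.hL.hTL

theorem KLCtx.X_le_L : K ⊔ thompsonSubgroupOf 2 T ≤ L := sup_le h.hKL h.J_le_L

theorem KLCtx.J_le_jOf : thompsonSubgroupOf 2 T ≤ jOf L := h.hL.thompson_le_jOf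

theorem KLCtx.K_le_jOf : K ≤ jOf L := by
  rw [← h.hJ.hKJ, Subgroup.commutator_le]
  intro k hk j hj
  have e : ⁅k, j⁆ = (k * j * k⁻¹) * j⁻¹ := by simp only [commutatorElement_def]
  rw [e]
  exact (jOf L).mul_mem (conj_mem_jOf (h.hKL hk) (h.J_le_jOf hj)) ((jOf L).inv_mem (h.J_le_jOf hj))

/-- `𝒜(S) ⊆ 𝒜(T)` -/
theorem KLCtx.maxEA_T {A : Subgroup G} (hA : A ∈ maxEA 2 S) : A ∈ maxEA 2 T :=
  maxEA_of_thompson_eq h.hJ.hth hA

/-- `Ω₁(Z(T)) ≤ Ω₁(Z(J(T)))` -/
theorem KLCtx.omegaCenterOf_le : omegaCenterOf T ≤ omegaCenterOf (thompsonSubgroupOf 2 T) := by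
  obtain ⟨A, hA⟩ := exists_maxEA T
  have hAJ : A ≤ thompsonSubgroupOf 2 T := by
    rw [thompsonSubgroupOf_eq]; exact le_sSup hA
  intro z hz
  have hzT : z ∈ T := mem_of_mem_omegaCenterOf hz
  have hzc : ∀ t ∈ T, z * t = t * z := fun t ht => (comm_of_mem_omegaCenterOf hz ht).symm
  have hz2 : z * z = 1 := mul_self_of_mem_omegaCenterOf hz
  have hzA : z ∈ A := maxEA_absorb hA hzT hz2 (fun a ha => hzc a (hA.1 ha))
  exact mem_omegaCenterOf (hAJ hzA) (fun j hj => (hzc j (h.J_le_T hj)).symm) hz2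

/-- `K` does not centralize `Ω₁(Z(T))` -/
theorem KLCtx.not_centralizes_omega :
    ¬ K ≤ Subgroup.centralizer ((omegaCenterOf T : Subgroup G) : Set G) := by
  intro hcon
  have hKN : K ≤ Subgroup.normalizer ((thompsonSubgroupOf 2 T : Subgroup G) : Set G) :=
    (le_inf h.hKL hcon).trans (h.hL.hZ.trans (normalizer_le_normalizer_thompson T))
  have hKJ : K ≤ thompsonSubgroupOf 2 T := by
    conv_lhs => rw [← h.hJ.hKJ]
    rw [Subgroup.commutator_le]
    intro k hk j hj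
    have e : ⁅k, j⁆ = (k * j * k⁻¹) * j⁻¹ := by simp only [commutatorElement_def]
    rw [e]
    exact Subgroup.mul_mem _ ((Subgroup.mem_normalizer_iff.mp (hKN hk) j).mp hj)
      (Subgroup.inv_mem _ hj)
  obtain ⟨g, hg, hodd, hgQ⟩ := h.hJ.hK.exists_odd
  apply hgQ
  obtain ⟨n, hn⟩ := h.hJ.hJ2 ⟨g, hKJ hg⟩
  have hn' : g ^ 2 ^ n = 1 := by
    have := congrArg Subtype.val hn
    simpa using this
  have hd : orderOf g ∣ 2 ^ n := orderOf_dvd_of_pow_eq_one hn'
  have h1 : orderOf g = 1 := by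
    have hc : Nat.Coprime (orderOf g) (2 ^ n) :=
      Nat.Coprime.pow_right n (Nat.coprime_two_right.mpr hodd)
    exact Nat.Coprime.eq_one_of_dvd hc hd
  rw [orderOf_eq_one_iff.mp h1]
  exact Subgroup.one_mem _

end

end Cfsg.Agent.Lib.Helper6.JL
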