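import Mathlib
import Cfsg.Agent.Lib.Helper6.JL.JL4

/-! A `J(T)`-component `K` inside `L ∈ 𝓛(T)`: `W_K ≤ V`, `O₂(L)` normalizes `K`,
`K ∩ C_L(V) ≤ O₂(K)`. -/

set_option autoImplicit false

namespace Cfsg.Agent.Lib.Helper6.JL

open Cfsg Cfsg.Agent.Lib.Helper9 Cfsg.Agent.Lib.Helper6 Cfsg.Agent.Lib.Helper6.JC
open Cfsg.Agent.Lib.Helper2.OmegaZ
open scoped commutatorElement Pointwise

variable {G : Type*} [Group G]

theorem orderOf_conj_eq (q g : G) : orderOf (q * g * q⁻¹) = orderOf g := by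
  have hsc : SemiconjBy q g (q * g * q⁻¹) := by
    rw [SemiconjBy]; group
  exact hsc.orderOf_eq.symm

/-- the argument of S2941: a subgroup normalized by `⟨K, J⟩` and normalizing `J` normalizes `K` -/
theorem _root_.Cfsg.Agent.Lib.Helper6.JC.JCtx.le_normalizer_of [Finite G] {K J S : Subgroup G} (h : JCtx K J S) {Q : Subgroup G}
    (hQ1 : K ⊔ J ≤ Subgroup.normalizer (Q : Set G)) (hQ2 : Q ≤ Subgroup.normalizer (J : Set G)) :
    Q ≤ Subgroup.normalizer (K : Set G) := by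
  have hK1 := h.hK.gen
  have hK2 := h.hKJ
  have hJ2 := h.hJ2
  have hJK := h.J_le_normalizer
  have hstep : ∀ q ∈ Q, ∀ g ∈ K, q * g * q⁻¹ ∈ J ⊔ K := by
    intro q hq
    have hle : ⁅K, J⁆ ≤ (J ⊔ K : Subgroup G).comap (MulAut.conj q).toMonoidHom := by
      rw [Subgroup.commutator_le]
      intro k hk j hj
      rw [Subgroup.mem_comap]
      show (MulAut.conj q) ⁅k, j⁆ ∈ J ⊔ K
      rw [MulAut.conj_apply]
      have hq' : k⁻¹ * q * k ∈ Q := by
        have hkn : k⁻¹ ∈ Subgroup.normalizer (Q : Set G) :=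
          hQ1 (Subgroup.mem_sup_left (K.inv_mem hk))
        have := (Subgroup.mem_normalizer_iff.mp hkn q).mp hq
        rwa [inv_inv] at this
      have hj1 : (k⁻¹ * q * k) * j * (k⁻¹ * q * k)⁻¹ ∈ J :=
        (Subgroup.mem_normalizer_iff.mp (hQ2 hq') j).mp hj
      have hj2 : q * j⁻¹ * q⁻¹ ∈ J :=
        (Subgroup.mem_normalizer_iff.mp (hQ2 hq) j⁻¹).mp (J.inv_mem hj)
      have h1 : q * ⁅k, j⁆ * q⁻¹ =
          k * ((k⁻¹ * q * k) * j * (k⁻¹ * q * k)⁻¹) * k⁻¹ * (q * j⁻¹ * q⁻¹) := by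
        simp only [commutatorElement_def]; group
      rw [h1]
      have hkL : k ∈ J ⊔ K := Subgroup.mem_sup_right hk
      exact Subgroup.mul_mem _ (Subgroup.mul_mem _ (Subgroup.mul_mem _ hkL (Subgroup.mem_sup_left hj1))
        (Subgroup.inv_mem _ hkL)) (Subgroup.mem_sup_left hj2)
    intro g hg
    rw [← hK2] at hg
    have := hle hg
    rw [Subgroup.mem_comap] at this
    exact this
  intro q hq
  apply Subgroup.mem_normalizer_fintype
  have hle : K ≤ K.comap (MulAut.conj q).toMonoidHom := by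
    conv_lhs => rw [← hK1]
    rw [Subgroup.closure_le]
    rintro g ⟨hgK, hgodd⟩
    rw [SetLike.mem_coe, Subgroup.mem_comap]
    show (MulAut.conj q) g ∈ K
    rw [MulAut.conj_apply]
    apply Cfsg.Agent.S2941.mem_of_odd_order hJ2 hJK (hstep q hq g hgK)
    rw [orderOf_conj_eq]
    exact hgodd
  intro n hn
  have := hle hn
  rw [Subgroup.mem_comap] at this
  exact this

theorem eq_of_card_two {C : Subgroup G} (hC : Nat.card C = 2) {w u : G} (hw : w ∈ C) (hu : u ∈ C)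
    (hw1 : w ≠ 1) (hu1 : u ≠ 1) : u = w := by
  obtain ⟨b, -, hb⟩ := (Nat.card_eq_two_iff' (1 : C)).mp hC
  have h1 := hb ⟨w, hw⟩ (fun h => hw1 (by simpa using congrArg Subtype.val h))
  have h2 := hb ⟨u, hu⟩ (fun h => hu1 (by simpa using congrArg Subtype.val h))
  have := h2.trans h1.symm
  simpa using congrArg Subtype.val this

section

variable [Finite G] {T L K S : Subgroup G} (h : KLCtx T L K S)
include h

/-- `O₂(L)` normalizes `K` -/
theorem KLCtx.pCoreOf_le_normalizer : pCoreOf 2 L ≤ Subgroup.normalizer (K : Set G) := by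
  apply h.hJ.le_normalizer_of
  · exact h.X_le_L.trans (Cfsg.Agent.Lib.Lead.Subnormalizer.le_normalizer_pCoreOf 2 L)
  · exact h.hL.pCoreOf_le_T.trans (Subgroup.le_normalizer.trans (normalizer_le_normalizer_thompson T))

/-- `W_K ≤ V` -/
theorem KLCtx.wOf_le_vOf : wOf K ≤ vOf L := by
  -- an element of `W ∩ V` different from 1
  have hex : ∃ w ∈ wOf K ⊓ vOf L, w ≠ 1 := by
    by_contra hcon
    push Not at hcon
    apply h.not_centralizes_omega
    intro k hk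
    rw [Subgroup.mem_centralizer_iff]
    intro z hz
    have hzJ := h.omegaCenterOf_le hz
    have h1 : k * z * k⁻¹ * z⁻¹ ∈ wOf K := h.hJ.comm_mem_wOf hzJ (Subgroup.mem_sup_left hk)
    have hzV : z ∈ vOf L := h.hL.omegaCenterOf_le_vOf hz
    have h2 : k * z * k⁻¹ * z⁻¹ ∈ vOf L :=
      (vOf L).mul_mem (conj_mem_vOf (h.hKL hk) hzV) ((vOf L).inv_mem hzV)
    have h3 := hcon _ (Subgroup.mem_inf.mpr ⟨h1, h2⟩)
    have e : z * k = (k * z * k⁻¹ * z⁻¹)⁻¹ * (k * z) := by group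
    rw [e, h3]; simp
  obtain ⟨w, hw, hw1⟩ := hex
  obtain ⟨g, hg, hodd, hgQ⟩ := h.hJ.hK.exists_odd
  by_contra hcon
  have hne : wOf K ⊓ vOf L ≠ ⊥ := by
    intro h0
    rw [h0, Subgroup.mem_bot] at hw
    exact hw1 hw
  have hlt : wOf K ⊓ vOf L ≠ wOf K := by
    intro h0
    apply hcon
    rw [← h0]; exact inf_le_right
  have hc2 := card_eq_two_of_lt_of_ne_bot h.hJ.hK.w4 inf_le_left hne hlt
  have hgw : g * w * g⁻¹ ∈ wOf K ⊓ vOf L := by
    obtain ⟨hwW, hwV⟩ := Subgroup.mem_inf.mp hw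
    exact Subgroup.mem_inf.mpr ⟨conj_mem_wOf (Subgroup.le_normalizer hg) hwW,
      conj_mem_vOf (h.hKL hg) hwV⟩
  have hgw1 : g * w * g⁻¹ ≠ 1 := by
    intro h0
    apply hw1
    have : w = g⁻¹ * (g * w * g⁻¹) * g := by group
    rw [this, h0]; group
  have hfix := eq_of_card_two hc2 hw hgw hw1 hgw1
  exact hw1 (h.hJ.hK.fixes_none hg hodd hgQ (Subgroup.mem_inf.mp hw).1 hfix)

/-- `K ∩ C_L(V) ≤ O₂(K)` -/
theorem KLCtx.inf_cOf_le : K ⊓ cOf L ≤ pCoreOf 2 K := by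
  intro k hk
  obtain ⟨hkK, hkC⟩ := Subgroup.mem_inf.mp hk
  apply h.hJ.hK.mem_pCoreOf_of_centralizes hkK
  exact Subgroup.centralizer_le (by exact_mod_cast h.wOf_le_vOf) (Subgroup.mem_inf.mp hkC).2

/-- `K ∩ O₂(L) ≤ O₂(K)` -/
theorem KLCtx.inf_pCoreOf_le : K ⊓ pCoreOf 2 L ≤ pCoreOf 2 K :=
  (inf_le_inf_left K h.hL.pCoreOf_le_cOf).trans h.inf_cOf_le

end

end Cfsg.Agent.Lib.Helper6.JL
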