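import Mathlib
import Cfsg.Agent.Lib.Helper6.JL.JL5
import Cfsg.Agent.Lib.Lead.KS9310a

/-! Abstract lemmas on a block `E_D ≅ SL₂(2)` of lead's failure-of-factorization set-up
(`p = 2`). -/

set_option autoImplicit false

namespace Cfsg.Agent.Lib.Helper6.JL

open Cfsg Cfsg.Agent.Lib.Helper9 Cfsg.Agent.Lib.Helper6 Cfsg.Agent.Lib.Helper6.JC
open Cfsg.Agent.Lib.Lead.KS93 Cfsg.Agent.Lib.Lead
open scoped commutatorElement

theorem sl22_cases : ∀ u : Matrix.SpecialLinearGroup (Fin 2) (ZMod 2), u ^ 2 = 1 ∨ u ^ 3 = 1 := by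
  decide +kernel

theorem sl22_invert : ∀ x y : Matrix.SpecialLinearGroup (Fin 2) (ZMod 2),
    x ^ 2 = 1 → x ≠ 1 → y ^ 3 = 1 → x * y * x⁻¹ = y⁻¹ := by
  decide +kernel

theorem sl22_split : ∀ x e : Matrix.SpecialLinearGroup (Fin 2) (ZMod 2),
    x ^ 2 = 1 → x ≠ 1 → ∃ r, r ^ 3 = 1 ∧ (e = r ∨ e = r * x) := by
  decide +kernel

theorem sl22_three : ∀ y r : Matrix.SpecialLinearGroup (Fin 2) (ZMod 2),
    y ^ 3 = 1 → y ≠ 1 → r ^ 3 = 1 → r = 1 ∨ r = y ∨ r = y ^ 2 := by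
  decide +kernel

section block

variable {Γ : Type*} [Group Γ] [Finite Γ] {V H Q D : Subgroup Γ}

local instance : Fact (Nat.Prime 2) := ⟨Nat.prime_two⟩

theorem MinOff.E_cases (St : Setup 2 V H Q) (M : MinOff 2 V H D) {e : Γ} (he : e ∈ ⁅Q, D⁆ ⊔ D) :
    e ^ 2 = 1 ∨ e ^ 3 = 1 := by
  obtain ⟨-, ⟨φ⟩⟩ := M.iso St
  rcases sl22_cases (φ ⟨e, he⟩) with h | h
  · left
    rw [← map_pow, ← map_one φ] at h
    have := φ.injective h
    simpa using congrArg Subtype.val this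
  · right
    rw [← map_pow, ← map_one φ] at h
    have := φ.injective h
    simpa using congrArg Subtype.val this

theorem MinOff.E_invert (St : Setup 2 V H Q) (M : MinOff 2 V H D) {x y : Γ}
    (hx : x ∈ ⁅Q, D⁆ ⊔ D) (hy : y ∈ ⁅Q, D⁆ ⊔ D) (hx2 : x ^ 2 = 1) (hx1 : x ≠ 1) (hy3 : y ^ 3 = 1) :
    x * y * x⁻¹ = y⁻¹ := by
  obtain ⟨-, ⟨φ⟩⟩ := M.iso St
  have h := sl22_invert (φ ⟨x, hx⟩) (φ ⟨y, hy⟩)
    (by rw [← map_pow]; convert map_one φ; exact Subtype.ext hx2)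
    (fun h0 => hx1 (by
      rw [← map_one φ] at h0
      simpa using congrArg Subtype.val (φ.injective h0)))
    (by rw [← map_pow]; convert map_one φ; exact Subtype.ext hy3)
  rw [← map_inv, ← map_inv, ← map_mul, ← map_mul] at h
  simpa using congrArg Subtype.val (φ.injective h)

theorem MinOff.E_split (St : Setup 2 V H Q) (M : MinOff 2 V H D) {x e : Γ}
    (hx : x ∈ ⁅Q, D⁆ ⊔ D) (he : e ∈ ⁅Q, D⁆ ⊔ D) (hx2 : x ^ 2 = 1) (hx1 : x ≠ 1) :
    ∃ r ∈ ⁅Q, D⁆ ⊔ D, r ^ 3 = 1 ∧ (e = r ∨ e = r * x) := by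
  obtain ⟨-, ⟨φ⟩⟩ := M.iso St
  obtain ⟨r, hr3, hr⟩ := sl22_split (φ ⟨x, hx⟩) (φ ⟨e, he⟩)
    (by rw [← map_pow]; convert map_one φ; exact Subtype.ext hx2)
    (fun h0 => hx1 (by
      rw [← map_one φ] at h0
      simpa using congrArg Subtype.val (φ.injective h0)))
  refine ⟨(φ.symm r : Γ), (φ.symm r).2, ?_, ?_⟩
  · have : (φ.symm r) ^ 3 = 1 := by rw [← map_pow, hr3, map_one]
    simpa using congrArg Subtype.val this
  · rcases hr with h | h
    · left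
      have : (⟨e, he⟩ : ↥(⁅Q, D⁆ ⊔ D)) = φ.symm r := by rw [← h]; simp
      simpa using congrArg Subtype.val this
    · right
      have : (⟨e, he⟩ : ↥(⁅Q, D⁆ ⊔ D)) = φ.symm r * ⟨x, hx⟩ := by
        apply φ.injective
        rw [map_mul, h]; simp
      simpa using congrArg Subtype.val this

theorem MinOff.E_three (St : Setup 2 V H Q) (M : MinOff 2 V H D) {y r : Γ}
    (hy : y ∈ ⁅Q, D⁆ ⊔ D) (hr : r ∈ ⁅Q, D⁆ ⊔ D) (hy3 : y ^ 3 = 1) (hy1 : y ≠ 1) (hr3 : r ^ 3 = 1) :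
    r = 1 ∨ r = y ∨ r = y ^ 2 := by
  obtain ⟨-, ⟨φ⟩⟩ := M.iso St
  have h := sl22_three (φ ⟨y, hy⟩) (φ ⟨r, hr⟩)
    (by rw [← map_pow]; convert map_one φ; exact Subtype.ext hy3)
    (fun h0 => hy1 (by
      rw [← map_one φ] at h0
      simpa using congrArg Subtype.val (φ.injective h0)))
    (by rw [← map_pow]; convert map_one φ; exact Subtype.ext hr3)
  rcases h with h | h | h
  · left
    rw [← map_one φ] at h
    simpa using congrArg Subtype.val (φ.injective h)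
  · right; left
    simpa using congrArg Subtype.val (φ.injective h)
  · right; right
    rw [← map_pow] at h
    simpa using congrArg Subtype.val (φ.injective h)

/-- the generator of a minimal offender (`p = 2`) -/
theorem MinOff.exists_gen (St : Setup 2 V H Q) (M : MinOff 2 V H D) :
    ∃ d ∈ D, d ≠ 1 ∧ d ^ 2 = 1 ∧ ∀ x ∈ D, x = 1 ∨ x = d := by
  have hc := M.card St
  obtain ⟨d, hd, hd1⟩ : ∃ d ∈ D, d ≠ 1 := by
    by_contra hcon
    push Not at hcon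
    exact M.hA1 ((Subgroup.eq_bot_iff_forall D).mpr hcon)
  refine ⟨d, hd, hd1, ?_, ?_⟩
  · have h1 : (⟨d, hd⟩ : D) ^ Nat.card D = 1 := pow_card_eq_one'
    rw [hc] at h1
    simpa using congrArg Subtype.val h1
  · intro x hx
    by_cases hx1 : x = 1
    · left; exact hx1
    · right; exact eq_of_card_two hc hd hx hd1 hx1

end block

end Cfsg.Agent.Lib.Helper6.JL
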