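import Mathlib
import Cfsg.Agent.Lib.Helper6.JL.JL6

/-! Abstract lemmas on a block `E_D ≅ SL₂(2)` (continued): identification of `[V, E_D]` with a
four-group `W'`, the product decomposition `H = E_D × C_H([V, E_D])`, elements of odd order of a
`D`-invariant subgroup. -/

set_option autoImplicit false

namespace Cfsg.Agent.Lib.Helper6.JL

open Cfsg Cfsg.Agent.Lib.Helper9 Cfsg.Agent.Lib.Helper6 Cfsg.Agent.Lib.Helper6.JC
open Cfsg.Agent.Lib.Lead.KS93 Cfsg.Agent.Lib.Lead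
open scoped commutatorElement

section block

variable {Γ : Type*} [Group Γ] [Finite Γ] {V H Q D : Subgroup Γ}
variable (hS3 : H = ⨆ A : {A : Subgroup Γ // A ≤ H ∧ Cfsg.IsBestOffenderOn 2 V A}, (A : Subgroup Γ))

local instance : Fact (Nat.Prime 2) := ⟨Nat.prime_two⟩

include hS3

/-- `[V, E_D] = W'` for a four-group `W' ≤ V` normalized but not centralized by `D`, on which
some `k ∈ H` acts fixed-point-freely -/
theorem MinOff.W_eq_of (St : Setup 2 V H Q) (M : MinOff 2 V H D) {W' : Subgroup Γ}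
    (hW'V : W' ≤ V) (hW'4 : Nat.card W' = 4) {k : Γ} (hkH : k ∈ H)
    (hkW : ∀ w ∈ W', k * w * k⁻¹ ∈ W') (hkfix : ∀ w ∈ W', k * w * k⁻¹ = w → w = 1)
    (hDW : ∀ d ∈ D, ∀ w ∈ W', d * w * d⁻¹ ∈ W')
    (hDnc : ¬ D ≤ Subgroup.centralizer (W' : Set Γ)) : ⁅V, ⁅Q, D⁆ ⊔ D⁆ = W' := by
  obtain ⟨hcD, hcVD, -⟩ := minimal_data St M.hAH M.hA M.hA1 M.hmin
  -- a nontrivial commutator in `W'`
  obtain ⟨d, hd, w, hw, hdw⟩ : ∃ d ∈ D, ∃ w ∈ W', w * d ≠ d * w := by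
    by_contra hcon
    push Not at hcon
    apply hDnc
    intro d hd
    rw [Subgroup.mem_centralizer_iff]
    intro w hw
    exact hcon d hd w hw
  set u : Γ := ⁅w, d⁆ with hu
  have hu1 : u ≠ 1 := by
    intro h0
    rw [hu, commutatorElement_eq_one_iff_mul_comm] at h0
    exact hdw h0
  have huVD : u ∈ ⁅V, D⁆ := Subgroup.commutator_mem_commutator (hW'V hw) hd
  have huW : u ∈ W' := by
    have e : u = w * (d * w⁻¹ * d⁻¹) := by rw [hu, commutatorElement_def]; group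
    rw [e]
    exact W'.mul_mem hw (hDW d hd _ (W'.inv_mem hw))
  set E : Subgroup Γ := ⁅Q, D⁆ ⊔ D with hE
  have hVD_le : ⁅V, D⁆ ≤ ⁅V, E⁆ := Subgroup.commutator_mono le_rfl le_sup_right
  have huWd : u ∈ ⁅V, E⁆ := hVD_le huVD
  -- the conjugate
  have hkV : k ∈ Subgroup.normalizer (V : Set Γ) := St.hHV hkH
  have hconj : D.map (MulAut.conj k).toMonoidHom ≤ E := M.conj_le_EA hS3 St hkH
  have hu'Wd : k * u * k⁻¹ ∈ ⁅V, E⁆ := by
    have h1 : k * u * k⁻¹ ∈ (⁅V, D⁆).map (MulAut.conj k).toMonoidHom := ⟨u, huVD, rfl⟩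
    rw [← commutator_map_conj_of_mem_normalizer hkV] at h1
    exact Subgroup.commutator_mono le_rfl hconj h1
  have hu'W : k * u * k⁻¹ ∈ W' := hkW u huW
  have hu'1 : k * u * k⁻¹ ≠ 1 := by
    intro h0
    apply hu1
    have : u = k⁻¹ * (k * u * k⁻¹) * k := by group
    rw [this, h0]; group
  have hu'u : k * u * k⁻¹ ≠ u := fun h0 => hu1 (hkfix u huW h0)
  -- `W' ⊓ [V, E] = W'`
  have hinf : W' ⊓ ⁅V, E⁆ = W' := by
    by_contra hne
    have hne0 : W' ⊓ ⁅V, E⁆ ≠ ⊥ := by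
      intro h0
      have : u ∈ W' ⊓ ⁅V, E⁆ := Subgroup.mem_inf.mpr ⟨huW, huWd⟩
      rw [h0, Subgroup.mem_bot] at this
      exact hu1 this
    have hc2 := card_eq_two_of_lt_of_ne_bot hW'4 inf_le_left hne0 hne
    exact hu'u (eq_of_card_two hc2 (Subgroup.mem_inf.mpr ⟨huW, huWd⟩)
      (Subgroup.mem_inf.mpr ⟨hu'W, hu'Wd⟩) hu1 hu'1)
  have hle : W' ≤ ⁅V, E⁆ := by rw [← hinf]; exact inf_le_right
  symm
  apply Subgroup.eq_of_le_of_card_ge hle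
  rw [hW'4, M.card_W St]
  norm_num

/-- `H = E_D · C_H([V, E_D])` elementwise, the factors commuting -/
theorem MinOff.exists_mul (St : Setup 2 V H Q) (M : MinOff 2 V H D) {x : Γ} (hx : x ∈ H) :
    ∃ e ∈ ⁅Q, D⁆ ⊔ D, ∃ c ∈ H ⊓ Subgroup.centralizer ((⁅V, ⁅Q, D⁆ ⊔ D⁆ : Subgroup Γ) : Set Γ),
      x = e * c := by
  have h1 := M.sup_CW hS3 St
  rw [← h1] at hx
  apply exists_mul_of_mem_sup' _ hx
  exact inf_le_left.trans (M.H_le_normalizer_EA hS3 St)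

theorem MinOff.comm_CW (St : Setup 2 V H Q) (M : MinOff 2 V H D) {e c : Γ}
    (he : e ∈ ⁅Q, D⁆ ⊔ D)
    (hc : c ∈ H ⊓ Subgroup.centralizer ((⁅V, ⁅Q, D⁆ ⊔ D⁆ : Subgroup Γ) : Set Γ)) :
    e * c = c * e := by
  have h1 : ⁅e, c⁆ ∈ ⁅⁅Q, D⁆ ⊔ D, H ⊓ Subgroup.centralizer ((⁅V, ⁅Q, D⁆ ⊔ D⁆ : Subgroup Γ) : Set Γ)⁆ :=
    Subgroup.commutator_mem_commutator he hc
  rw [M.commutator_CW hS3 St, Subgroup.mem_bot] at h1
  exact commutatorElement_eq_one_iff_mul_comm.mp h1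

omit [Finite Γ] hS3 in
theorem eq_one_of_pow_of_pow {c : Γ} {n m : ℕ} (hn : Odd n) (h1 : c ^ n = 1) (h2 : c ^ 2 ^ m = 1) :
    c = 1 := by
  have hd1 : orderOf c ∣ n := orderOf_dvd_of_pow_eq_one h1
  have hd2 : orderOf c ∣ 2 ^ m := orderOf_dvd_of_pow_eq_one h2
  have hc : Nat.Coprime n (2 ^ m) := Nat.Coprime.pow_right m (Nat.coprime_two_right.mpr hn)
  have : orderOf c = 1 := Nat.eq_one_of_dvd_coprimes hc hd1 hd2
  exact orderOf_eq_one_iff.mp this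

/-- the elements of odd order of a `D`-invariant subgroup `X ≤ H` with `C_X([V, E_D])` a 2-group
lie in `E_D` and have order dividing 3 -/
theorem MinOff.odd_mem (St : Setup 2 V H Q) (M : MinOff 2 V H D) {X : Subgroup Γ} (hXH : X ≤ H)
    (hDX : D ≤ Subgroup.normalizer (X : Set Γ))
    (hX2 : ∀ x ∈ X, x ∈ Subgroup.centralizer ((⁅V, ⁅Q, D⁆ ⊔ D⁆ : Subgroup Γ) : Set Γ) →
      ∃ n : ℕ, x ^ 2 ^ n = 1)
    {x : Γ} (hx : x ∈ X) (hodd : Odd (orderOf x)) : x ∈ ⁅Q, D⁆ ⊔ D ∧ x ^ 3 = 1 := by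
  obtain ⟨e, he, c, hc, rfl⟩ := MinOff.exists_mul hS3 St M (hXH hx)
  have hec : e * c = c * e := MinOff.comm_CW hS3 St M he hc
  set n := orderOf (e * c) with hn
  have hpow : e ^ n * c ^ n = 1 := by
    rw [← (show Commute e c from hec).mul_pow, hn, pow_orderOf_eq_one]
  have hen : e ^ n ∈ (⁅Q, D⁆ ⊔ D) ⊓
      (H ⊓ Subgroup.centralizer ((⁅V, ⁅Q, D⁆ ⊔ D⁆ : Subgroup Γ) : Set Γ)) := by
    refine Subgroup.mem_inf.mpr ⟨Subgroup.pow_mem _ he n, ?_⟩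
    have : e ^ n = (c ^ n)⁻¹ := eq_inv_of_mul_eq_one_left hpow
    rw [this]
    exact Subgroup.inv_mem _ (Subgroup.pow_mem _ hc n)
  rw [M.inf_CW hS3 St, Subgroup.mem_bot] at hen
  have hcn : c ^ n = 1 := by rw [hen, one_mul] at hpow; exact hpow
  -- `e ^ 3 = 1`
  have he3 : e ^ 3 = 1 := by
    rcases MinOff.E_cases St M he with h2 | h3
    · have : e = 1 := eq_one_of_pow_of_pow (m := 1) hodd hen (by simpa using h2)
      rw [this, one_pow]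
    · exact h3
  -- `c = 1`
  obtain ⟨d, hd, hd1, hd2, -⟩ := MinOff.exists_gen St M
  have hdE : d ∈ ⁅Q, D⁆ ⊔ D := (le_sup_right : D ≤ ⁅Q, D⁆ ⊔ D) hd
  have hinv : d * e * d⁻¹ = e⁻¹ := MinOff.E_invert St M hdE he hd2 hd1 he3
  have hdc : d * c = c * d := MinOff.comm_CW hS3 St M hdE hc
  have hconj : d * (e * c) * d⁻¹ ∈ X := (Subgroup.mem_normalizer_iff.mp (hDX hd) _).mp hx
  have hcc : c * c ∈ X := by
    have h1 := X.mul_mem hx hconj
    have e1 : e * c * (d * (e * c) * d⁻¹) = e * c * (d * e * d⁻¹) * (d * c * d⁻¹) := by group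
    have e2 : d * c * d⁻¹ = c := by rw [hdc]; group
    rw [e1, hinv, e2] at h1
    have e3 : e * c * e⁻¹ * c = c * c := by rw [hec]; group
    rwa [e3] at h1
  have hccC : c * c ∈ Subgroup.centralizer ((⁅V, ⁅Q, D⁆ ⊔ D⁆ : Subgroup Γ) : Set Γ) :=
    Subgroup.mul_mem _ hc.2 hc.2
  obtain ⟨m, hm⟩ := hX2 _ hcc hccC
  have hc1 : c = 1 := by
    apply eq_one_of_pow_of_pow (m := m + 1) hodd hcn
    rw [pow_succ', pow_mul, pow_two]; exact hm
  rw [hc1, mul_one]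
  exact ⟨he, he3⟩

end block

end Cfsg.Agent.Lib.Helper6.JL
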