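import Mathlib
import Cfsg.Agent.Lib.Helper6.JL.JL7
import Cfsg.Agent.S0606
import Cfsg.Agent.Lib.Lead.Holo12

/-! The failure-of-factorization set-up in the holomorph of `V = VV 2 ↥L`, and the image of the
four-group `W_K`. -/

set_option autoImplicit false

namespace Cfsg.Agent.Lib.Helper6.JL

open Cfsg Cfsg.Agent.Lib.Helper9 Cfsg.Agent.Lib.Helper6 Cfsg.Agent.Lib.Helper6.JC
open Cfsg.Agent.Lib.Helper2.OmegaZ
open Cfsg.Agent.Lib.Lead.KS93 Cfsg.Agent.Lib.Lead Cfsg.Agent.Lib.Lead.Holo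
open scoped commutatorElement

universe u

variable {G : Type u} [Group G] [Finite G]

local instance instFactTwo : Fact (Nat.Prime 2) := ⟨Nat.prime_two⟩

local instance instVVNormal (L : Subgroup G) : (VV 2 ↥L).Normal := VV_normal

/-- the image in the holomorph of a subgroup `W` of `G` (meant for `W ≤ vOf L`) -/
def imgV (L W : Subgroup G) : Subgroup (Hol (VV 2 ↥L)) :=
  ((W.subgroupOf L).subgroupOf (VV 2 ↥L)).map SemidirectProduct.inl

theorem mem_imgV_iff {L W : Subgroup G} {γ : Hol (VV 2 ↥L)} :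
    γ ∈ imgV L W ↔ ∃ v : ↥(VV 2 ↥L), ((v : ↥L) : G) ∈ W ∧ SemidirectProduct.inl v = γ := by
  unfold imgV
  constructor
  · rintro ⟨v, hv, rfl⟩
    exact ⟨v, hv, rfl⟩
  · rintro ⟨v, hv, rfl⟩
    exact ⟨v, hv, rfl⟩

theorem imgV_le_VH (L W : Subgroup G) : imgV L W ≤ VH (VV 2 ↥L) := by
  rintro _ ⟨v, -, rfl⟩
  exact ⟨v, rfl⟩

theorem card_imgV {L W : Subgroup G} (hWV : W ≤ vOf L) : Nat.card (imgV L W) = Nat.card W := by
  unfold imgV
  rw [Subgroup.card_map_of_injective SemidirectProduct.inl_injective]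
  have h1 : W.subgroupOf L ≤ VV 2 ↥L := by
    intro x hx
    rw [Subgroup.mem_subgroupOf] at hx
    exact (mem_vOf_iff x.2).mp (hWV hx)
  rw [Helper9.card_subgroupOf_of_le h1, Helper9.card_subgroupOf_of_le (hWV.trans (vOf_le L))]

/-- conjugation by `ψ(x)` on the image of `V` -/
theorem psi_conj_inl_val {L : Subgroup G} (x : ↥L) (v : ↥(VV 2 ↥L)) :
    ∃ v' : ↥(VV 2 ↥L), ((v' : ↥L) : G) = (x : G) * ((v : ↥L) : G) * (x : G)⁻¹ ∧
      psi (VV 2 ↥L) x * SemidirectProduct.inl v * (psi (VV 2 ↥L) x)⁻¹ = SemidirectProduct.inl v' := by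
  refine ⟨MulAut.conjNormal x v, ?_, psi_conj_inl (VV 2 ↥L) x v⟩
  rw [MulAut.conjNormal_apply]
  simp

theorem mem_cOf_iff {L : Subgroup G} {x : G} (hx : x ∈ L) :
    x ∈ cOf L ↔ psi (VV 2 ↥L) ⟨x, hx⟩ = 1 := by
  rw [psi_eq_one_iff]
  unfold cOf
  constructor
  · intro h
    rw [Subgroup.mem_centralizer_iff]
    intro v hv
    apply Subtype.ext
    have hvV : ((v : ↥L) : G) ∈ vOf L := (mem_vOf_iff v.2).mpr hv
    exact (Subgroup.mem_centralizer_iff.mp (Subgroup.mem_inf.mp h).2) _ hvV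
  · intro h
    refine Subgroup.mem_inf.mpr ⟨hx, ?_⟩
    rw [Subgroup.mem_centralizer_iff]
    rintro _ ⟨v, hv, rfl⟩
    have := (Subgroup.mem_centralizer_iff.mp h) v hv
    exact congrArg Subtype.val this

end Cfsg.Agent.Lib.Helper6.JL
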