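import Mathlib
import Cfsg.Agent.Lib.Helper6.JL.JL8

/-! The block of a `J(T)`-component `K ≤ L` in the holomorph of `V = VV 2 ↥L`: existence of a
minimal offender `D = ⟨ψ(a₁)⟩`, `a₁ ∈ J(T)`, with `[V, E_D]` the image of `W_K`. -/

set_option autoImplicit false

namespace Cfsg.Agent.Lib.Helper6.JL

open Cfsg Cfsg.Agent.Lib.Helper9 Cfsg.Agent.Lib.Helper6 Cfsg.Agent.Lib.Helper6.JC
open Cfsg.Agent.Lib.Helper2.OmegaZ
open Cfsg.Agent.Lib.Lead.KS93 Cfsg.Agent.Lib.Lead Cfsg.Agent.Lib.Lead.Holo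
open scoped commutatorElement

universe u

variable {G : Type u} [Group G] [Finite G]

local instance instFactTwo' : Fact (Nat.Prime 2) := ⟨Nat.prime_two⟩

local instance instVVNormal' (L : Subgroup G) : (VV 2 ↥L).Normal := VV_normal

/-- conjugation by `ψ(x)`, `x ∈ L` normalizing `W`, preserves the image of `W` -/
theorem imgV_conj {L W : Subgroup G} {x : G} (hx : x ∈ L) (hxW : ∀ w ∈ W, x * w * x⁻¹ ∈ W)
    {γ : Hol (VV 2 ↥L)} (hγ : γ ∈ imgV L W) :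
    psi (VV 2 ↥L) ⟨x, hx⟩ * γ * (psi (VV 2 ↥L) ⟨x, hx⟩)⁻¹ ∈ imgV L W := by
  obtain ⟨v, hv, rfl⟩ := mem_imgV_iff.mp hγ
  obtain ⟨v', hv', he⟩ := psi_conj_inl_val (⟨x, hx⟩ : ↥L) v
  rw [he]
  refine mem_imgV_iff.mpr ⟨v', ?_, rfl⟩
  rw [hv']
  exact hxW _ hv

/-- `ψ(x)` centralizes the image of `W ≤ V` iff `x` centralizes `W` -/
theorem psi_mem_centralizer_imgV_iff {L W : Subgroup G} (hWV : W ≤ vOf L) {x : G} (hx : x ∈ L) :
    psi (VV 2 ↥L) ⟨x, hx⟩ ∈ Subgroup.centralizer ((imgV L W : Subgroup (Hol (VV 2 ↥L))) : Set _) ↔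
      x ∈ Subgroup.centralizer (W : Set G) := by
  constructor
  · intro h
    rw [Subgroup.mem_centralizer_iff]
    intro w hw
    have hwV := hWV hw
    have hwL : w ∈ L := vOf_le L hwV
    set v : ↥(VV 2 ↥L) := ⟨⟨w, hwL⟩, (mem_vOf_iff hwL).mp hwV⟩ with hv
    have h1 := (Subgroup.mem_centralizer_iff.mp h) (SemidirectProduct.inl v)
      (mem_imgV_iff.mpr ⟨v, hw, rfl⟩)
    have h2 := (psi_mul_inl_comm_iff (VV 2 ↥L) (⟨x, hx⟩ : ↥L) v).mp h1.symm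
    have h3 := congrArg Subtype.val h2
    simpa [hv] using h3.symm
  · intro h
    rw [Subgroup.mem_centralizer_iff]
    intro γ hγ
    obtain ⟨v, hv, rfl⟩ := mem_imgV_iff.mp hγ
    symm
    rw [psi_mul_inl_comm_iff]
    apply Subtype.ext
    have := (Subgroup.mem_centralizer_iff.mp h) _ hv
    simpa using this.symm

/-- the block data in the holomorph -/
structure HolCtx (T L K : Subgroup G) (H' Q' D : Subgroup (Hol (VV 2 ↥L))) (a₁ : G) : Prop where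
  hH' : H' = (thompsonSubgroup 2 ↥L).map (psi (VV 2 ↥L))
  St : Setup 2 (VH (VV 2 ↥L)) H' Q'
  hS3 : H' = ⨆ A' : {A' : Subgroup (Hol (VV 2 ↥L)) // A' ≤ H' ∧
    IsBestOffenderOn 2 (VH (VV 2 ↥L)) A'}, (A' : Subgroup (Hol (VV 2 ↥L)))
  M : MinOff 2 (VH (VV 2 ↥L)) H' D
  ha₁J : a₁ ∈ thompsonSubgroupOf 2 T
  ha₁L : a₁ ∈ L
  ha₁D : psi (VV 2 ↥L) ⟨a₁, ha₁L⟩ ∈ D
  ha₁1 : psi (VV 2 ↥L) ⟨a₁, ha₁L⟩ ≠ 1
  hW : ⁅VH (VV 2 ↥L), ⁅Q', D⁆ ⊔ D⁆ = imgV L (wOf K)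

variable {T L K S : Subgroup G} (h : KLCtx T L K S)
include h

theorem KLCtx.exists_holCtx : ∃ (H' Q' D : Subgroup (Hol (VV 2 ↥L))) (a₁ : G),
    HolCtx T L K H' Q' D a₁ := by
  classical
  have hL := h.hL
  have hVea : IsElementaryAbelian 2 (VV 2 ↥L) := isEA_of_le_omegaZ _ (VV_le_omegaZ hL.hc')
  have hC := pCore_quotient_centralizer_VV (G := ↥L) (p := 2)
  obtain ⟨H', Q', hH', St, hS3⟩ := exists_setup (VV 2 ↥L) hVea hL.isPSolvable hC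
  -- the largest elementary abelian subgroup
  obtain ⟨A, hA, hAW⟩ := h.hJ.exists_maxEA_not_le
  have hAT := h.maxEA_T hA
  have hAJ : A ≤ thompsonSubgroupOf 2 T := h.hJ.le_J_of_maxEA hA
  have hA0 := hL.maxEA_subgroupOf hAT
  have hbest : IsBestOffenderOn 2 (VH (VV 2 ↥L)) ((A.subgroupOf L).map (psi (VV 2 ↥L))) :=
    bestOffender_map (VV 2 ↥L) (Cfsg.Agent.S0606.result (VV 2 ↥L) hVea _ hA0)
  have hA'H : (A.subgroupOf L).map (psi (VV 2 ↥L)) ≤ H' := by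
    rw [hH']; exact Subgroup.map_mono (le_sSup hA0)
  have hWV := h.wOf_le_vOf
  -- the image of `A` does not centralize the image of `W`
  have hA'nc : ¬ (A.subgroupOf L).map (psi (VV 2 ↥L)) ≤
      Subgroup.centralizer ((imgV L (wOf K) : Subgroup (Hol (VV 2 ↥L))) : Set _) := by
    intro hcon
    apply hAW
    intro a ha
    have haL : a ∈ L := h.J_le_L (hAJ ha)
    have h1 : psi (VV 2 ↥L) ⟨a, haL⟩ ∈ (A.subgroupOf L).map (psi (VV 2 ↥L)) :=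
      ⟨⟨a, haL⟩, Subgroup.mem_subgroupOf.mpr ha, rfl⟩
    exact (psi_mem_centralizer_imgV_iff hWV haL).mp (hcon h1)
  have hA'ne : (A.subgroupOf L).map (psi (VV 2 ↥L)) ≠ ⊥ := by
    intro h0
    apply hA'nc
    rw [h0]; exact bot_le
  obtain ⟨n, B, hB, -, hsup⟩ := decomposition St _ _ rfl hA'H hbest hA'ne
  obtain ⟨i, hi⟩ : ∃ i, ¬ B i ≤
      Subgroup.centralizer ((imgV L (wOf K) : Subgroup (Hol (VV 2 ↥L))) : Set _) := by
    by_contra hcon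
    push Not at hcon
    apply hA'nc
    rw [← hsup]
    exact iSup_le hcon
  have M : MinOff 2 (VH (VV 2 ↥L)) H' (B i) :=
    ⟨(hB i).1.trans hA'H, (hB i).2.1, (hB i).2.2.1, (hB i).2.2.2⟩
  obtain ⟨d, hd, hd1, hd2, hDall⟩ := MinOff.exists_gen St M
  obtain ⟨a', ha', hda⟩ := (hB i).1 hd
  rw [SetLike.mem_coe, Subgroup.mem_subgroupOf] at ha'
  have ha₁J : (a' : G) ∈ thompsonSubgroupOf 2 T := hAJ ha'
  -- an element of odd order
  obtain ⟨g, hg, hodd, hgQ⟩ := h.hJ.hK.exists_odd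
  have hgL : g ∈ L := h.hKL hg
  have hgH : psi (VV 2 ↥L) ⟨g, hgL⟩ ∈ H' := by
    rw [hH']
    exact ⟨⟨g, hgL⟩, (mem_jOf_iff hgL).mp (h.K_le_jOf hg), rfl⟩
  have hgW : ∀ w ∈ wOf K, g * w * g⁻¹ ∈ wOf K := fun w hw =>
    conj_mem_wOf (Subgroup.le_normalizer hg) hw
  have haW : ∀ w ∈ wOf K, (a' : G) * w * (a' : G)⁻¹ ∈ wOf K := fun w hw =>
    conj_mem_wOf (h.hJ.J_le_normalizer ha₁J) hw
  have hW4 : Nat.card (imgV L (wOf K)) = 4 := by rw [card_imgV hWV, h.hJ.hK.w4]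
  have hWeq : ⁅VH (VV 2 ↥L), ⁅Q', B i⁆ ⊔ B i⁆ = imgV L (wOf K) := by
    apply MinOff.W_eq_of hS3 St M (imgV_le_VH L _) hW4 hgH
    · intro γ hγ
      exact imgV_conj hgL hgW hγ
    · intro γ hγ hfix
      obtain ⟨v, hv, rfl⟩ := mem_imgV_iff.mp hγ
      obtain ⟨v', hv', he⟩ := psi_conj_inl_val (⟨g, hgL⟩ : ↥L) v
      rw [he, SemidirectProduct.inl_inj] at hfix
      rw [hfix] at hv'
      have h1 := h.hJ.hK.fixes_none hg hodd hgQ hv hv'.symm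
      have h2 : v = 1 := Subtype.ext (Subtype.ext h1)
      rw [h2, map_one]
    · intro x hx γ hγ
      rcases hDall x hx with rfl | rfl
      · simpa using hγ
      · rw [← hda]
        exact imgV_conj a'.2 haW hγ
    · exact hi
  refine ⟨H', Q', B i, (a' : G), hH', St, hS3, M, ha₁J, a'.2, ?_, ?_, hWeq⟩
  · rw [show (⟨(a' : G), a'.2⟩ : ↥L) = a' from rfl, hda]; exact hd
  · rw [show (⟨(a' : G), a'.2⟩ : ↥L) = a' from rfl, hda]; exact hd1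

end Cfsg.Agent.Lib.Helper6.JL
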