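import Mathlib
import Cfsg.Agent.Lib.Helper6.JL.JL9

/-! Consequences of the block data: the image of `K` is the subgroup of order 3 of the block. -/

set_option autoImplicit false

namespace Cfsg.Agent.Lib.Helper6.JL

open Cfsg Cfsg.Agent.Lib.Helper9 Cfsg.Agent.Lib.Helper6 Cfsg.Agent.Lib.Helper6.JC
open Cfsg.Agent.Lib.Helper2.OmegaZ
open Cfsg.Agent.Lib.Lead.KS93 Cfsg.Agent.Lib.Lead Cfsg.Agent.Lib.Lead.Holo
open scoped commutatorElement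

universe u

variable {G : Type u} [Group G] [Finite G]

local instance instFactTwo'' : Fact (Nat.Prime 2) := ⟨Nat.prime_two⟩

local instance instVVNormal'' (L : Subgroup G) : (VV 2 ↥L).Normal := VV_normal

variable {T L K S : Subgroup G} {H' Q' D : Subgroup (Hol (VV 2 ↥L))} {a₁ : G}

theorem HolCtx.psi_mem_H' (c : HolCtx T L K H' Q' D a₁) {x : G} (hx : x ∈ jOf L) :
    psi (VV 2 ↥L) ⟨x, jOf_le L hx⟩ ∈ H' := by
  rw [c.hH']
  exact ⟨⟨x, jOf_le L hx⟩, (mem_jOf_iff (jOf_le L hx)).mp hx, rfl⟩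

theorem HolCtx.d_mem_E (c : HolCtx T L K H' Q' D a₁) :
    psi (VV 2 ↥L) ⟨a₁, c.ha₁L⟩ ∈ ⁅Q', D⁆ ⊔ D := (le_sup_right : D ≤ ⁅Q', D⁆ ⊔ D) c.ha₁D

theorem HolCtx.d_sq (c : HolCtx T L K H' Q' D a₁) : psi (VV 2 ↥L) ⟨a₁, c.ha₁L⟩ ^ 2 = 1 := by
  obtain ⟨d, -, -, hd2, hall⟩ := MinOff.exists_gen c.St c.M
  rcases hall _ c.ha₁D with h | h
  · exact absurd h c.ha₁1
  · rw [h]; exact hd2

theorem HolCtx.D_cases (c : HolCtx T L K H' Q' D a₁) {x : Hol (VV 2 ↥L)} (hx : x ∈ D) :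
    x = 1 ∨ x = psi (VV 2 ↥L) ⟨a₁, c.ha₁L⟩ := by
  obtain ⟨d, -, -, -, hall⟩ := MinOff.exists_gen c.St c.M
  rcases hall _ c.ha₁D with h | h
  · exact absurd h c.ha₁1
  · rw [h]; exact hall x hx

section
variable (h : KLCtx T L K S) (c : HolCtx T L K H' Q' D a₁)
include h c

/-- the images of the elements of odd order of `K` -/
theorem KLCtx.psi_odd {k : G} (hk : k ∈ K) (hodd : Odd (orderOf k)) :
    psi (VV 2 ↥L) ⟨k, h.hKL hk⟩ ∈ ⁅Q', D⁆ ⊔ D ∧ psi (VV 2 ↥L) ⟨k, h.hKL hk⟩ ^ 3 = 1 := by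
  have hWV := h.wOf_le_vOf
  apply MinOff.odd_mem c.hS3 c.St c.M (X := (K.subgroupOf L).map (psi (VV 2 ↥L)))
  · rintro _ ⟨k', hk', rfl⟩
    rw [SetLike.mem_coe, Subgroup.mem_subgroupOf] at hk'
    exact c.psi_mem_H' (h.K_le_jOf hk')
  · apply Cfsg.Agent.Lib.Lead.Subnormalizer.le_normalizer_of_forall_conj_mem
    rintro y hy _ ⟨k', hk', rfl⟩
    rw [SetLike.mem_coe, Subgroup.mem_subgroupOf] at hk'
    rcases c.D_cases hy with rfl | rfl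
    · rw [one_mul, inv_one, mul_one]
      exact ⟨k', Subgroup.mem_subgroupOf.mpr hk', rfl⟩
    · refine ⟨⟨a₁, c.ha₁L⟩ * k' * ⟨a₁, c.ha₁L⟩⁻¹, ?_, ?_⟩
      · rw [SetLike.mem_coe, Subgroup.mem_subgroupOf]
        exact (Subgroup.mem_normalizer_iff.mp (h.hJ.J_le_normalizer c.ha₁J) _).mp hk'
      · rw [map_mul, map_mul, map_inv]
  · rintro _ ⟨k', hk', rfl⟩ hcen
    rw [SetLike.mem_coe, Subgroup.mem_subgroupOf] at hk'
    rw [c.hW] at hcen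
    have h1 : (k' : G) ∈ Subgroup.centralizer ((wOf K : Subgroup G) : Set G) :=
      (psi_mem_centralizer_imgV_iff hWV k'.2).mp hcen
    have h2 := h.hJ.hK.mem_pCoreOf_of_centralizes hk' h1
    obtain ⟨n, hn⟩ := pCoreOf_isPGroup 2 K ⟨(k' : G), h2⟩
    refine ⟨n, ?_⟩
    rw [← map_pow]
    have : k' ^ 2 ^ n = 1 := by
      apply Subtype.ext
      have := congrArg Subtype.val hn
      simpa using this
    rw [this, map_one]
  · exact ⟨⟨k, h.hKL hk⟩, Subgroup.mem_subgroupOf.mpr hk, rfl⟩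
  · have h1 : orderOf (psi (VV 2 ↥L) ⟨k, h.hKL hk⟩) ∣ orderOf (⟨k, h.hKL hk⟩ : ↥L) :=
      orderOf_map_dvd _ _
    rw [Subgroup.orderOf_mk] at h1
    exact Odd.of_dvd_nat hodd h1

end

end Cfsg.Agent.Lib.Helper6.JL
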