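import Mathlib
import Cfsg.Agent.Lib.Helper6.JL.JL10

/-! The block data pulled back to `G`: the structure `Blk`. -/

set_option autoImplicit false

namespace Cfsg.Agent.Lib.Helper6.JL

open Cfsg Cfsg.Agent.Lib.Helper9 Cfsg.Agent.Lib.Helper6 Cfsg.Agent.Lib.Helper6.JC
open Cfsg.Agent.Lib.Helper2.OmegaZ
open Cfsg.Agent.Lib.Lead.KS93 Cfsg.Agent.Lib.Lead Cfsg.Agent.Lib.Lead.Holo
open scoped commutatorElement

universe u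

variable {G : Type u} [Group G] [Finite G]

local instance instFactTwo3 : Fact (Nat.Prime 2) := ⟨Nat.prime_two⟩

local instance instVVNormal3 (L : Subgroup G) : (VV 2 ↥L).Normal := VV_normal

/-- the data pulled back from the block of `K` in `J(L) C_L(V) / C_L(V)` -/
structure Blk (T L K : Subgroup G) (a₁ g : G) : Prop where
  ha : a₁ ∈ thompsonSubgroupOf 2 T
  hg : g ∈ K
  hodd : Odd (orderOf g)
  hgQ : g ∉ pCoreOf 2 K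
  hQK : pCoreOf 2 K ≤ cOf L
  hinv : ∀ k ∈ K, a₁ * k * a₁⁻¹ * k ∈ cOf L
  hcube : ∀ k ∈ K, k ^ 3 ∈ cOf L
  hdec : ∀ m ∈ jOf L, ∃ k ∈ K, ∃ ε : ℕ, ∃ y ∈ L, m = k * a₁ ^ ε * y ∧
    (∀ k' ∈ K, y * k' * y⁻¹ * k'⁻¹ ∈ cOf L) ∧ y * a₁ * y⁻¹ * a₁⁻¹ ∈ cOf L
  huniq : ∀ l ∈ L, (∃ w ∈ wOf K, w ≠ 1 ∧ l * w * l⁻¹ ∈ wOf K) →
    ∀ k ∈ K, ∃ k₁ ∈ K, l * k * l⁻¹ * k₁⁻¹ ∈ cOf L

variable {T L K S : Subgroup G} {H' Q' D : Subgroup (Hol (VV 2 ↥L))} {a₁ : G}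

section
variable (h : KLCtx T L K S) (c : HolCtx T L K H' Q' D a₁)
include h c

/-- the image of `K` is generated by the image of `g` -/
theorem KLCtx.psi_mem_zpowers {g : G} (hg : g ∈ K) (hodd : Odd (orderOf g))
    (hgQ : g ∉ pCoreOf 2 K) {k : G} (hk : k ∈ K) :
    psi (VV 2 ↥L) ⟨k, h.hKL hk⟩ ∈ Subgroup.zpowers (psi (VV 2 ↥L) ⟨g, h.hKL hg⟩) := by
  obtain ⟨hy0E, hy03⟩ := h.psi_odd c hg hodd
  have hy01 : psi (VV 2 ↥L) ⟨g, h.hKL hg⟩ ≠ 1 := by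
    intro h0
    apply hgQ
    exact h.inf_cOf_le (Subgroup.mem_inf.mpr ⟨hg, (mem_cOf_iff (h.hKL hg)).mpr h0⟩)
  set Z := Subgroup.zpowers (psi (VV 2 ↥L) ⟨g, h.hKL hg⟩) with hZ
  have hle : K ≤ (Z.comap (psi (VV 2 ↥L))).map L.subtype := by
    conv_lhs => rw [← h.hJ.hK.gen]
    rw [Subgroup.closure_le]
    rintro x ⟨hxK, hxodd⟩
    obtain ⟨hxE, hx3⟩ := h.psi_odd c hxK hxodd
    refine ⟨⟨x, h.hKL hxK⟩, ?_, rfl⟩
    rw [SetLike.mem_coe, Subgroup.mem_comap]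
    rcases MinOff.E_three c.St c.M hy0E hxE hy03 hy01 hx3 with h1 | h1 | h1
    · rw [h1]; exact Z.one_mem
    · rw [h1]; exact Subgroup.mem_zpowers _
    · rw [h1]; exact Z.pow_mem (Subgroup.mem_zpowers _) 2
  obtain ⟨x', hx', hxk⟩ := hle hk
  have : x' = ⟨k, h.hKL hk⟩ := Subtype.ext hxk
  rw [← this]
  exact hx'

end

end Cfsg.Agent.Lib.Helper6.JL
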