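import Mathlib
import Cfsg.Agent.Lib.Helper6.JL.JL11

/-! The block data pulled back to `G`: first fields of `Blk`. -/

set_option autoImplicit false

namespace Cfsg.Agent.Lib.Helper6.JL

open Cfsg Cfsg.Agent.Lib.Helper9 Cfsg.Agent.Lib.Helper6 Cfsg.Agent.Lib.Helper6.JC
open Cfsg.Agent.Lib.Helper2.OmegaZ
open Cfsg.Agent.Lib.Lead.KS93 Cfsg.Agent.Lib.Lead Cfsg.Agent.Lib.Lead.Holo
open scoped commutatorElement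

universe u

variable {G : Type u} [Group G] [Finite G]

local instance instFactTwo4 : Fact (Nat.Prime 2) := ⟨Nat.prime_two⟩

local instance instVVNormal4 (L : Subgroup G) : (VV 2 ↥L).Normal := VV_normal

variable {T L K S : Subgroup G} {H' Q' D : Subgroup (Hol (VV 2 ↥L))} {a₁ : G}

section
variable (h : KLCtx T L K S) (c : HolCtx T L K H' Q' D a₁)
include h c

theorem KLCtx.psi_K {g : G} (hg : g ∈ K) (hodd : Odd (orderOf g))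
    (hgQ : g ∉ pCoreOf 2 K) {k : G} (hk : k ∈ K) :
    psi (VV 2 ↥L) ⟨k, h.hKL hk⟩ ∈ ⁅Q', D⁆ ⊔ D ∧ psi (VV 2 ↥L) ⟨k, h.hKL hk⟩ ^ 3 = 1 ∧
      ∃ k₀ : G, ∃ hk₀ : k₀ ∈ K, (∃ n : ℤ, k₀ = g ^ n) ∧
        psi (VV 2 ↥L) ⟨k, h.hKL hk⟩ = psi (VV 2 ↥L) ⟨k₀, h.hKL hk₀⟩ := by
  obtain ⟨hy0E, hy03⟩ := h.psi_odd c hg hodd
  obtain ⟨n, hn⟩ := Subgroup.mem_zpowers_iff.mp (h.psi_mem_zpowers c hg hodd hgQ hk)
  rw [← hn]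
  refine ⟨Subgroup.zpow_mem _ hy0E n, ?_, g ^ n, K.zpow_mem hg n, ⟨n, rfl⟩, ?_⟩
  · rw [← zpow_natCast, ← zpow_mul, mul_comm, zpow_mul, zpow_natCast, hy03, one_zpow]
  · rw [← map_zpow]
    rfl

/-- `O₂(K) ≤ C_L(V)` -/
theorem KLCtx.pCoreOf_le_cOf : pCoreOf 2 K ≤ cOf L := by
  obtain ⟨g, hg, hodd, hgQ⟩ := h.hJ.hK.exists_odd
  intro q hq
  have hqK : q ∈ K := pCoreOf_le K hq
  obtain ⟨-, h3, -⟩ := h.psi_K c hg hodd hgQ hqK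
  obtain ⟨n, hn⟩ := pCoreOf_isPGroup 2 K ⟨q, hq⟩
  have hn' : q ^ 2 ^ n = 1 := by
    have := congrArg Subtype.val hn
    simpa using this
  rw [mem_cOf_iff (h.hKL hqK)]
  apply eq_one_of_pow_of_pow (n := 3) (m := n) (by decide) h3
  rw [← map_pow]
  have : (⟨q, h.hKL hqK⟩ : ↥L) ^ 2 ^ n = 1 := Subtype.ext (by simpa using hn')
  rw [this, map_one]

/-- `a₁` inverts `K` modulo `C_L(V)` -/
theorem KLCtx.a_inverts {k : G} (hk : k ∈ K) : a₁ * k * a₁⁻¹ * k ∈ cOf L := by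
  obtain ⟨g, hg, hodd, hgQ⟩ := h.hJ.hK.exists_odd
  obtain ⟨hE, h3, -⟩ := h.psi_K c hg hodd hgQ hk
  have hkL := h.hKL hk
  have hxL : a₁ * k * a₁⁻¹ * k ∈ L :=
    L.mul_mem (L.mul_mem (L.mul_mem c.ha₁L hkL) (L.inv_mem c.ha₁L)) hkL
  rw [mem_cOf_iff hxL]
  have e : (⟨a₁ * k * a₁⁻¹ * k, hxL⟩ : ↥L) = ⟨a₁, c.ha₁L⟩ * ⟨k, hkL⟩ * ⟨a₁, c.ha₁L⟩⁻¹ * ⟨k, hkL⟩ := rfl
  rw [e, map_mul, map_mul, map_mul, map_inv,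
    MinOff.E_invert c.St c.M c.d_mem_E hE c.d_sq c.ha₁1 h3]
  group

/-- cubes of elements of `K` lie in `C_L(V)` -/
theorem KLCtx.cube_mem {k : G} (hk : k ∈ K) : k ^ 3 ∈ cOf L := by
  obtain ⟨g, hg, hodd, hgQ⟩ := h.hJ.hK.exists_odd
  obtain ⟨-, h3, -⟩ := h.psi_K c hg hodd hgQ hk
  have hkL := h.hKL hk
  rw [mem_cOf_iff (L.pow_mem hkL 3)]
  have e : (⟨k ^ 3, L.pow_mem hkL 3⟩ : ↥L) = ⟨k, hkL⟩ ^ 3 := rfl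
  rw [e, map_pow, h3]

/-- elements of `L` whose image centralizes `[V, E_D]` commute with `K` and `a₁` modulo
`C_L(V)` -/
theorem KLCtx.comm_of_psi_mem {y : G} (hy : y ∈ L)
    (hyc : psi (VV 2 ↥L) ⟨y, hy⟩ ∈ H' ⊓ Subgroup.centralizer
      ((⁅VH (VV 2 ↥L), ⁅Q', D⁆ ⊔ D⁆ : Subgroup (Hol (VV 2 ↥L))) : Set (Hol (VV 2 ↥L)))) :
    (∀ k' ∈ K, y * k' * y⁻¹ * k'⁻¹ ∈ cOf L) ∧ y * a₁ * y⁻¹ * a₁⁻¹ ∈ cOf L := by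
  obtain ⟨g, hg, hodd, hgQ⟩ := h.hJ.hK.exists_odd
  have key : ∀ x : G, ∀ hx : x ∈ L, psi (VV 2 ↥L) ⟨x, hx⟩ ∈ ⁅Q', D⁆ ⊔ D →
      y * x * y⁻¹ * x⁻¹ ∈ cOf L := by
    intro x hx hxE
    have hzL : y * x * y⁻¹ * x⁻¹ ∈ L :=
      L.mul_mem (L.mul_mem (L.mul_mem hy hx) (L.inv_mem hy)) (L.inv_mem hx)
    rw [mem_cOf_iff hzL]
    have e : (⟨y * x * y⁻¹ * x⁻¹, hzL⟩ : ↥L) = ⟨y, hy⟩ * ⟨x, hx⟩ * ⟨y, hy⟩⁻¹ * ⟨x, hx⟩⁻¹ := rfl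
    rw [e, map_mul, map_mul, map_mul, map_inv, map_inv]
    have hcomm := MinOff.comm_CW c.hS3 c.St c.M hxE hyc
    rw [← hcomm]
    group
  refine ⟨fun k' hk' => key k' (h.hKL hk') (h.psi_K c hg hodd hgQ hk').1, key a₁ c.ha₁L c.d_mem_E⟩

end

end Cfsg.Agent.Lib.Helper6.JL
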