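import Mathlib
import Cfsg.Agent.Lib.Helper6.JL.JL12

/-! The block data pulled back to `G`: decomposition of `J(L)` and the uniqueness of the block;
existence of `Blk`. -/

set_option autoImplicit false

namespace Cfsg.Agent.Lib.Helper6.JL

open Cfsg Cfsg.Agent.Lib.Helper9 Cfsg.Agent.Lib.Helper6 Cfsg.Agent.Lib.Helper6.JC
open Cfsg.Agent.Lib.Helper2.OmegaZ
open Cfsg.Agent.Lib.Lead.KS93 Cfsg.Agent.Lib.Lead Cfsg.Agent.Lib.Lead.Holo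
open scoped commutatorElement

universe u

variable {G : Type u} [Group G] [Finite G]

local instance instFactTwo5 : Fact (Nat.Prime 2) := ⟨Nat.prime_two⟩

local instance instVVNormal5 (L : Subgroup G) : (VV 2 ↥L).Normal := VV_normal

variable {T L K S : Subgroup G} {H' Q' D : Subgroup (Hol (VV 2 ↥L))} {a₁ : G}

section
variable (h : KLCtx T L K S) (c : HolCtx T L K H' Q' D a₁)
include h c

/-- decomposition of the elements of `J(L)` -/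
theorem KLCtx.decomp {m : G} (hm : m ∈ jOf L) :
    ∃ k ∈ K, ∃ ε : ℕ, ∃ y ∈ L, m = k * a₁ ^ ε * y ∧
      (∀ k' ∈ K, y * k' * y⁻¹ * k'⁻¹ ∈ cOf L) ∧ y * a₁ * y⁻¹ * a₁⁻¹ ∈ cOf L := by
  obtain ⟨g, hg, hodd, hgQ⟩ := h.hJ.hK.exists_odd
  have hmL : m ∈ L := jOf_le L hm
  have hμH := c.psi_mem_H' hm
  obtain ⟨e, he, cc, hcc, hμ⟩ := MinOff.exists_mul c.hS3 c.St c.M hμH
  obtain ⟨r, hrE, hr3, hcase⟩ := MinOff.E_split c.St c.M c.d_mem_E he c.d_sq c.ha₁1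
  obtain ⟨hy0E, hy03, -⟩ := h.psi_K c hg hodd hgQ hg
  have hy01 : psi (VV 2 ↥L) ⟨g, h.hKL hg⟩ ≠ 1 := by
    intro h0
    apply hgQ
    exact h.inf_cOf_le (Subgroup.mem_inf.mpr ⟨hg, (mem_cOf_iff (h.hKL hg)).mpr h0⟩)
  -- `r` is the image of an element of `K`
  obtain ⟨k₀, hk₀, hrk⟩ : ∃ k₀ : G, ∃ hk₀ : k₀ ∈ K, r = psi (VV 2 ↥L) ⟨k₀, h.hKL hk₀⟩ := by
    rcases MinOff.E_three c.St c.M hy0E hrE hy03 hy01 hr3 with h1 | h1 | h1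
    · refine ⟨1, K.one_mem, ?_⟩
      rw [h1]
      exact (map_one (psi (VV 2 ↥L))).symm
    · exact ⟨g, hg, h1⟩
    · refine ⟨g ^ 2, K.pow_mem hg 2, ?_⟩
      rw [h1, ← map_pow]
      rfl
  have hk₀L := h.hKL hk₀
  rcases hcase with hc0 | hc1
  · -- `e = r`
    have hyL : k₀⁻¹ * m ∈ L := L.mul_mem (L.inv_mem hk₀L) hmL
    refine ⟨k₀, hk₀, 0, k₀⁻¹ * m, hyL, by group, ?_⟩
    apply h.comm_of_psi_mem c hyL
    have e1 : (⟨k₀⁻¹ * m, hyL⟩ : ↥L) = ⟨k₀, hk₀L⟩⁻¹ * ⟨m, hmL⟩ := rfl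
    rw [e1, map_mul, map_inv, hμ, hc0, hrk]
    simpa using hcc
  · -- `e = r * d`
    have hyL : (k₀ * a₁)⁻¹ * m ∈ L := L.mul_mem (L.inv_mem (L.mul_mem hk₀L c.ha₁L)) hmL
    refine ⟨k₀, hk₀, 1, (k₀ * a₁)⁻¹ * m, hyL, by group, ?_⟩
    apply h.comm_of_psi_mem c hyL
    have e1 : (⟨(k₀ * a₁)⁻¹ * m, hyL⟩ : ↥L) = (⟨k₀, hk₀L⟩ * ⟨a₁, c.ha₁L⟩)⁻¹ * ⟨m, hmL⟩ := rfl
    rw [e1, map_mul, map_inv, map_mul, hμ, hc1, hrk]
    simpa [mul_assoc] using hcc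

omit h in
/-- `ψ(l)` normalizes `H'` -/
theorem HolCtx.psi_mem_normalizer {l : G} (hl : l ∈ L) :
    psi (VV 2 ↥L) ⟨l, hl⟩ ∈ Subgroup.normalizer ((H' : Subgroup (Hol (VV 2 ↥L))) : Set _) := by
  have hle : (psi (VV 2 ↥L)).range ≤ Subgroup.normalizer ((H' : Subgroup (Hol (VV 2 ↥L))) : Set _) := by
    apply Cfsg.Agent.Lib.Lead.Subnormalizer.le_normalizer_of_forall_conj_mem
    rintro _ ⟨x, rfl⟩ b hb
    rw [c.hH'] at hb ⊢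
    obtain ⟨j, hj, rfl⟩ := hb
    haveI : (thompsonSubgroup 2 ↥L).Normal := thompsonSubgroup_normal 2
    refine ⟨x * j * x⁻¹, Subgroup.Normal.conj_mem inferInstance j hj x, ?_⟩
    rw [map_mul, map_mul, map_inv]
  exact hle ⟨_, rfl⟩

/-- an element of `L` mapping a nontrivial element of `W_K` into `W_K` normalizes the block -/
theorem KLCtx.E_conj_eq {l : G} (hl : l ∈ L) (hw : ∃ w ∈ wOf K, w ≠ 1 ∧ l * w * l⁻¹ ∈ wOf K) :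
    (⁅Q', D⁆ ⊔ D).map (MulAut.conj (psi (VV 2 ↥L) ⟨l, hl⟩)).toMonoidHom = ⁅Q', D⁆ ⊔ D := by
  obtain ⟨w, hwW, hw1, hlw⟩ := hw
  set lam := psi (VV 2 ↥L) ⟨l, hl⟩ with hlam
  have hlamV : lam ∈ Subgroup.normalizer ((VH (VV 2 ↥L) : Subgroup (Hol (VV 2 ↥L))) : Set _) :=
    le_normalizer_VH (VV 2 ↥L) ⊤ (Subgroup.mem_top _)
  have hlamH : lam ∈ Subgroup.normalizer ((H' : Subgroup (Hol (VV 2 ↥L))) : Set _) :=
    c.psi_mem_normalizer hl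
  have M₂ := c.M.conj' hlamV hlamH
  have hEconj := c.M.EA_conj c.hS3 c.St hlamV hlamH
  rw [hEconj]
  by_contra hne
  -- the two blocks centralize each other's modules
  have h1 := MinOff.block_le_CW c.hS3 c.St M₂ c.M (Ne.symm hne)
  -- the element `inl (l w l⁻¹)`
  have hwV := h.wOf_le_vOf hwW
  have hwL : w ∈ L := vOf_le L hwV
  set v : ↥(VV 2 ↥L) := ⟨⟨w, hwL⟩, (mem_vOf_iff hwL).mp hwV⟩ with hv
  obtain ⟨v', hv', he⟩ := psi_conj_inl_val (⟨l, hl⟩ : ↥L) v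
  have hγW : (SemidirectProduct.inl v' : Hol (VV 2 ↥L)) ∈ ⁅VH (VV 2 ↥L), ⁅Q', D⁆ ⊔ D⁆ := by
    rw [c.hW]
    exact mem_imgV_iff.mpr ⟨v', by rw [hv']; exact hlw, rfl⟩
  have hγW₂ : (SemidirectProduct.inl v' : Hol (VV 2 ↥L)) ∈
      ⁅VH (VV 2 ↥L), ⁅Q', D.map (MulAut.conj lam).toMonoidHom⁆ ⊔
        D.map (MulAut.conj lam).toMonoidHom⁆ := by
    rw [← hEconj, ← map_conj_eq_of_mem_normalizer hlamV, ← Subgroup.map_commutator]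
    refine ⟨SemidirectProduct.inl v, ?_, ?_⟩
    · rw [c.hW]
      exact mem_imgV_iff.mpr ⟨v, hwW, rfl⟩
    · rw [← he]
      rfl
  -- it is centralized by `E_D`
  have hcen : (SemidirectProduct.inl v' : Hol (VV 2 ↥L)) ∈ VH (VV 2 ↥L) ⊓
      Subgroup.centralizer ((⁅Q', D⁆ ⊔ D : Subgroup (Hol (VV 2 ↥L))) : Set _) := by
    refine Subgroup.mem_inf.mpr ⟨⟨v', rfl⟩, ?_⟩
    rw [Subgroup.mem_centralizer_iff]
    intro e he'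
    have := (Subgroup.mem_centralizer_iff.mp (h1 he').2) _ hγW₂
    exact this.symm
  have hbot := c.M.inf_fix c.St
  have : (SemidirectProduct.inl v' : Hol (VV 2 ↥L)) ∈
      ⁅VH (VV 2 ↥L), ⁅Q', D⁆ ⊔ D⁆ ⊓ (VH (VV 2 ↥L) ⊓
        Subgroup.centralizer ((⁅Q', D⁆ ⊔ D : Subgroup (Hol (VV 2 ↥L))) : Set _)) :=
    Subgroup.mem_inf.mpr ⟨hγW, hcen⟩
  rw [hbot, Subgroup.mem_bot] at this
  have hv'1 : v' = 1 := SemidirectProduct.inl_injective (by rw [this, map_one])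
  apply hw1
  have h2 : l * w * l⁻¹ = 1 := by
    rw [← hv', hv'1]; rfl
  have : w = l⁻¹ * (l * w * l⁻¹) * l := by group
  rw [this, h2]; group

/-- an element of `L` mapping a nontrivial element of `W_K` into `W_K` normalizes `K` modulo
`C_L(V)` -/
theorem KLCtx.uniq {l : G} (hl : l ∈ L) (hw : ∃ w ∈ wOf K, w ≠ 1 ∧ l * w * l⁻¹ ∈ wOf K)
    {k : G} (hk : k ∈ K) : ∃ k₁ ∈ K, l * k * l⁻¹ * k₁⁻¹ ∈ cOf L := by
  obtain ⟨g, hg, hodd, hgQ⟩ := h.hJ.hK.exists_odd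
  have hEeq := h.E_conj_eq c hl hw
  obtain ⟨hkE, hk3, -⟩ := h.psi_K c hg hodd hgQ hk
  obtain ⟨hy0E, hy03, -⟩ := h.psi_K c hg hodd hgQ hg
  have hy01 : psi (VV 2 ↥L) ⟨g, h.hKL hg⟩ ≠ 1 := by
    intro h0
    apply hgQ
    exact h.inf_cOf_le (Subgroup.mem_inf.mpr ⟨hg, (mem_cOf_iff (h.hKL hg)).mpr h0⟩)
  have hkL := h.hKL hk
  set lam := psi (VV 2 ↥L) ⟨l, hl⟩ with hlam
  set ρ := lam * psi (VV 2 ↥L) ⟨k, hkL⟩ * lam⁻¹ with hρ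
  have hρE : ρ ∈ ⁅Q', D⁆ ⊔ D := by
    rw [← hEeq]
    exact ⟨_, hkE, rfl⟩
  have hρ3 : ρ ^ 3 = 1 := by
    rw [hρ, conj_pow, hk3]; group
  obtain ⟨k₁, hk₁, hρk⟩ : ∃ k₁ : G, ∃ hk₁ : k₁ ∈ K, ρ = psi (VV 2 ↥L) ⟨k₁, h.hKL hk₁⟩ := by
    rcases MinOff.E_three c.St c.M hy0E hρE hy03 hy01 hρ3 with h1 | h1 | h1
    · refine ⟨1, K.one_mem, ?_⟩
      rw [h1]
      exact (map_one (psi (VV 2 ↥L))).symm
    · exact ⟨g, hg, h1⟩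
    · refine ⟨g ^ 2, K.pow_mem hg 2, ?_⟩
      rw [h1, ← map_pow]
      rfl
  refine ⟨k₁, hk₁, ?_⟩
  have hk₁L := h.hKL hk₁
  have hzL : l * k * l⁻¹ * k₁⁻¹ ∈ L :=
    L.mul_mem (L.mul_mem (L.mul_mem hl hkL) (L.inv_mem hl)) (L.inv_mem hk₁L)
  rw [mem_cOf_iff hzL]
  have e : (⟨l * k * l⁻¹ * k₁⁻¹, hzL⟩ : ↥L) = ⟨l, hl⟩ * ⟨k, hkL⟩ * ⟨l, hl⟩⁻¹ * ⟨k₁, hk₁L⟩⁻¹ := rfl
  rw [e, map_mul, map_mul, map_mul, map_inv, map_inv, ← hlam, ← hρk, hρ]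
  group

end

/-- the block data exist -/
theorem KLCtx.exists_blk (h : KLCtx T L K S) : ∃ a₁ g : G, Blk T L K a₁ g := by
  obtain ⟨H', Q', D, a₁, c⟩ := h.exists_holCtx
  obtain ⟨g, hg, hodd, hgQ⟩ := h.hJ.hK.exists_odd
  exact ⟨a₁, g, c.ha₁J, hg, hodd, hgQ, h.pCoreOf_le_cOf c, fun k hk => h.a_inverts c hk, fun k hk => h.cube_mem c hk,
    fun m hm => h.decomp c hm, fun l hl hw k hk => h.uniq c hl hw hk⟩

end Cfsg.Agent.Lib.Helper6.JL
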