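import Mathlib
import Cfsg.Agent.Lib.Helper6.JL.JL13

/-! `K` is normal in `M₁ = J(L) C_L(V)`. -/

set_option autoImplicit false

namespace Cfsg.Agent.Lib.Helper6.JL

open Cfsg Cfsg.Agent.Lib.Helper9 Cfsg.Agent.Lib.Helper6 Cfsg.Agent.Lib.Helper6.JC
open Cfsg.Agent.Lib.Helper2.OmegaZ
open scoped commutatorElement

section abstract
variable {Λ : Type*} [Group Λ]

/-- the key computation modulo a normal subgroup, in the quotient -/
theorem sq_comm_of_inverted {g y a c₁ : Λ} (h1 : a * g * a⁻¹ = g⁻¹)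
    (h2 : a * (g⁻¹ * y * g * y⁻¹) * a⁻¹ = g⁻¹ * y * g * y⁻¹)
    (h3 : a * y * a⁻¹ = y * c₁) (h4 : g * c₁ = c₁ * g) : g ^ 2 * y = y * g ^ 2 := by
  have h1' : a * g⁻¹ * a⁻¹ = g := by
    have : a * g⁻¹ * a⁻¹ = (a * g * a⁻¹)⁻¹ := by group
    rw [this, h1, inv_inv]
  have h3' : a * y⁻¹ * a⁻¹ = (y * c₁)⁻¹ := by
    have : a * y⁻¹ * a⁻¹ = (a * y * a⁻¹)⁻¹ := by group
    rw [this, h3]
  have h4' : c₁ * g⁻¹ = g⁻¹ * c₁ := by
    have : c₁ * g⁻¹ = g⁻¹ * (g * c₁) * g⁻¹ := by group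
    rw [this, h4]; group
  have h5 : a * (g⁻¹ * y * g * y⁻¹) * a⁻¹ =
      (a * g⁻¹ * a⁻¹) * (a * y * a⁻¹) * (a * g * a⁻¹) * (a * y⁻¹ * a⁻¹) := by group
  rw [h2, h1', h3, h1, h3'] at h5
  have h6 : g * (y * c₁) * g⁻¹ * (y * c₁)⁻¹ = g * y * g⁻¹ * y⁻¹ := by
    have : g * (y * c₁) * g⁻¹ * (y * c₁)⁻¹ = g * y * (c₁ * g⁻¹) * c₁⁻¹ * y⁻¹ := by group
    rw [this, h4']; group
  rw [h6] at h5
  -- `g⁻¹ y g y⁻¹ = g y g⁻¹ y⁻¹`
  have h7 : g * y * g⁻¹ = g⁻¹ * y * g := by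
    have : g * y * g⁻¹ = (g * y * g⁻¹ * y⁻¹) * y := by group
    rw [this, ← h5]; group
  rw [pow_two]
  calc g * g * y = g * (g * y * g⁻¹) * g := by group
    _ = g * (g⁻¹ * y * g) * g := by rw [h7]
    _ = y * (g * g) := by group

theorem comm_of_sq_comm {g y : Λ} (hodd : Odd (orderOf g)) (h : g ^ 2 * y = y * g ^ 2) :
    g * y = y * g := by
  obtain ⟨k, hk⟩ := exists_pow_sq_of_odd hodd
  have hc : Commute (g ^ 2) y := h
  have := (hc.pow_left k).eq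
  rwa [hk] at this

/-- modulo a normal subgroup `N`: if `a` inverts `g` (of odd order), commutes with `[g, y]`,
and `[y, a]` commutes with `g`, then `y` commutes with `g` -/
theorem comm_mod_of_inverted (N : Subgroup Λ) [hN : N.Normal] {g y a c₁ : Λ}
    (h1 : a * g * a⁻¹ * g ∈ N)
    (h2 : a * (g⁻¹ * y * g * y⁻¹) * a⁻¹ * (g⁻¹ * y * g * y⁻¹)⁻¹ ∈ N)
    (h3 : a * y * a⁻¹ = y * c₁) (h4 : g * c₁ * g⁻¹ * c₁⁻¹ ∈ N) (hodd : Odd (orderOf g)) :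
    y * g * y⁻¹ * g⁻¹ ∈ N := by
  set π := QuotientGroup.mk' N with hπ
  have e1 : π a * π g * (π a)⁻¹ = (π g)⁻¹ := by
    have : π (a * g * a⁻¹ * g) = 1 := (QuotientGroup.eq_one_iff _).mpr h1
    rw [map_mul, map_mul, map_mul, map_inv] at this
    exact eq_inv_of_mul_eq_one_left this
  have e2 : π a * ((π g)⁻¹ * π y * π g * (π y)⁻¹) * (π a)⁻¹ = (π g)⁻¹ * π y * π g * (π y)⁻¹ := by
    have : π (a * (g⁻¹ * y * g * y⁻¹) * a⁻¹ * (g⁻¹ * y * g * y⁻¹)⁻¹) = 1 :=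
      (QuotientGroup.eq_one_iff _).mpr h2
    rw [map_mul, map_mul, map_mul, map_inv, map_inv, map_mul, map_mul, map_mul, map_inv,
      map_inv] at this
    exact eq_of_mul_inv_eq_one this
  have e3 : π a * π y * (π a)⁻¹ = π y * π c₁ := by
    rw [← map_inv, ← map_mul, ← map_mul, h3, map_mul]
  have e4 : π g * π c₁ = π c₁ * π g := by
    have : π (g * c₁ * g⁻¹ * c₁⁻¹) = 1 := (QuotientGroup.eq_one_iff _).mpr h4
    rw [map_mul, map_mul, map_mul, map_inv, map_inv] at this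
    have h5 := eq_of_mul_inv_eq_one this
    calc π g * π c₁ = π g * π c₁ * (π g)⁻¹ * π g := by group
      _ = π c₁ * π g := by rw [h5]
  have hodd' : Odd (orderOf (π g)) := Odd.of_dvd_nat hodd (orderOf_map_dvd _ _)
  have e5 := comm_of_sq_comm hodd' (sq_comm_of_inverted e1 e2 e3 e4)
  rw [← QuotientGroup.eq_one_iff]
  show π (y * g * y⁻¹ * g⁻¹) = 1
  rw [map_mul, map_mul, map_mul, map_inv, map_inv, ← e5]
  group

end abstract

variable {G : Type*} [Group G] [Finite G]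

theorem mem_pCoreOf_iff {L : Subgroup G} {x : G} (hx : x ∈ L) :
    x ∈ pCoreOf 2 L ↔ (⟨x, hx⟩ : ↥L) ∈ pCore 2 ↥L := by
  unfold pCoreOf
  constructor
  · rintro ⟨y, hy, rfl⟩
    exact hy
  · intro h
    exact ⟨⟨x, hx⟩, h, rfl⟩

variable {T L K S : Subgroup G} {a₁ g : G}

section
variable (h : KLCtx T L K S) (b : Blk T L K a₁ g)
include h b

/-- `O₂(K) ≤ O₂(L)` -/
theorem KLCtx.pCoreOf_le_pCoreOf : pCoreOf 2 K ≤ pCoreOf 2 L :=
  h.hL.le_pCoreOf_of_le_cOf b.hQK (pCoreOf_isPGroup 2 K)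

/-- `K ∩ C_L(V) ≤ O₂(L)` -/
theorem KLCtx.mem_pCoreOf_of_mem_cOf {x : G} (hxK : x ∈ K) (hxC : x ∈ cOf L) : x ∈ pCoreOf 2 L :=
  h.pCoreOf_le_pCoreOf b (h.inf_cOf_le (Subgroup.mem_inf.mpr ⟨hxK, hxC⟩))

omit b in
/-- an element of `L` commuting modulo `O₂(L)` with the odd-order elements of `K`
normalizes `K` -/
theorem KLCtx.mem_normalizer_of_comm {x : G} (hxL : x ∈ L)
    (hcomm : ∀ k ∈ K, Odd (orderOf k) → x * k * x⁻¹ * k⁻¹ ∈ pCoreOf 2 L) :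
    x ∈ Subgroup.normalizer (K : Set G) := by
  apply Subgroup.mem_normalizer_fintype
  have hle : K ≤ K.comap (MulAut.conj x).toMonoidHom := by
    conv_lhs => rw [← h.hJ.hK.gen]
    rw [Subgroup.closure_le]
    rintro k ⟨hkK, hkodd⟩
    rw [SetLike.mem_coe, Subgroup.mem_comap]
    show (MulAut.conj x) k ∈ K
    rw [MulAut.conj_apply]
    apply Cfsg.Agent.S2941.mem_of_odd_order (pCoreOf_isPGroup 2 L) h.pCoreOf_le_normalizer
    · have e : x * k * x⁻¹ = (x * k * x⁻¹ * k⁻¹) * k := by group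
      rw [e]
      exact Subgroup.mul_mem _ (Subgroup.mem_sup_left (hcomm k hkK hkodd))
        (Subgroup.mem_sup_right hkK)
    · rw [orderOf_conj_eq]; exact hkodd
  intro n hn
  have := hle hn
  rw [Subgroup.mem_comap] at this
  exact this

omit b in
/-- `C_L(V)` normalizes `K` -/
theorem KLCtx.cOf_le_normalizer : cOf L ≤ Subgroup.normalizer (K : Set G) := by
  intro c hc
  apply h.mem_normalizer_of_comm (cOf_le L hc)
  intro k hk _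
  have h1 := h.hL.comm_jOf_cOf (h.K_le_jOf hk) ((cOf L).inv_mem hc)
  have e : c * k * c⁻¹ * k⁻¹ = c * (k * c⁻¹ * k⁻¹ * c⁻¹⁻¹) * c⁻¹ := by group
  rw [e]
  exact conj_mem_pCoreOf (cOf_le L hc) h1

/-- the elements `y` of the decomposition normalize `K` -/
theorem KLCtx.y_mem_normalizer {y : G} (hy : y ∈ L)
    (hyK : ∀ k' ∈ K, y * k' * y⁻¹ * k'⁻¹ ∈ cOf L) (hya : y * a₁ * y⁻¹ * a₁⁻¹ ∈ cOf L) :
    y ∈ Subgroup.normalizer (K : Set G) := by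
  apply h.mem_normalizer_of_comm hy
  intro k hk hodd
  have hkL := h.hKL hk
  have haL : a₁ ∈ L := h.J_le_L b.ha
  haveI : (pCore 2 ↥L).Normal := Cfsg.Agent.Lib.Lead.pCore_normal 2
  -- the two elements of `C_L(V)`
  have hc₂ : k⁻¹ * y * k * y⁻¹ ∈ cOf L := by
    have h1 := hyK k hk
    have e : k⁻¹ * y * k * y⁻¹ = k⁻¹ * (y * k * y⁻¹ * k⁻¹) * k⁻¹⁻¹ := by group
    rw [e]
    exact conj_mem_cOf (L.inv_mem hkL) h1
  have hc₁ : y⁻¹ * a₁ * y * a₁⁻¹ ∈ cOf L := by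
    have e : y⁻¹ * a₁ * y * a₁⁻¹ = y⁻¹ * (y * a₁ * y⁻¹ * a₁⁻¹)⁻¹ * y⁻¹⁻¹ := by group
    rw [e]
    exact conj_mem_cOf (L.inv_mem hy) ((cOf L).inv_mem hya)
  have hzL : y * k * y⁻¹ * k⁻¹ ∈ L :=
    L.mul_mem (L.mul_mem (L.mul_mem hy hkL) (L.inv_mem hy)) (L.inv_mem hkL)
  rw [mem_pCoreOf_iff hzL]
  have key := comm_mod_of_inverted (pCore 2 ↥L) (g := (⟨k, hkL⟩ : ↥L)) (y := ⟨y, hy⟩)
    (a := ⟨a₁, haL⟩) (c₁ := ⟨y⁻¹ * a₁ * y * a₁⁻¹, cOf_le L hc₁⟩) ?_ ?_ ?_ ?_ ?_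
  · exact key
  · -- `a₁` inverts `k` modulo `O₂(L)`
    have h1 : a₁ * k * a₁⁻¹ * k ∈ pCoreOf 2 L := by
      apply h.mem_pCoreOf_of_mem_cOf b _ (b.hinv k hk)
      exact K.mul_mem ((Subgroup.mem_normalizer_iff.mp (h.hJ.J_le_normalizer b.ha) k).mp hk) hk
    exact (mem_pCoreOf_iff (L.mul_mem (L.mul_mem (L.mul_mem haL hkL) (L.inv_mem haL)) hkL)).mp h1
  · have h1 := h.hL.comm_jOf_cOf (h.J_le_jOf b.ha) hc₂
    exact (mem_pCoreOf_iff (L.mul_mem (L.mul_mem (L.mul_mem haL (cOf_le L hc₂)) (L.inv_mem haL))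
      (L.inv_mem (cOf_le L hc₂)))).mp h1
  · apply Subtype.ext
    show a₁ * y * a₁⁻¹ = y * (y⁻¹ * a₁ * y * a₁⁻¹)
    group
  · have h1 := h.hL.comm_jOf_cOf (h.K_le_jOf hk) hc₁
    exact (mem_pCoreOf_iff (L.mul_mem (L.mul_mem (L.mul_mem hkL (cOf_le L hc₁)) (L.inv_mem hkL))
      (L.inv_mem (cOf_le L hc₁)))).mp h1
  · rw [Subgroup.orderOf_mk]; exact hodd

/-- `J(L)` normalizes `K` -/
theorem KLCtx.jOf_le_normalizer : jOf L ≤ Subgroup.normalizer (K : Set G) := by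
  intro m hm
  obtain ⟨k, hk, ε, y, hy, rfl, hyK, hya⟩ := b.hdec m hm
  exact Subgroup.mul_mem _ (Subgroup.mul_mem _ (Subgroup.le_normalizer hk)
    (Subgroup.pow_mem _ (h.hJ.J_le_normalizer b.ha) ε)) (h.y_mem_normalizer b hy hyK hya)

/-- `M₁ = J(L) C_L(V)` normalizes `K` -/
theorem KLCtx.M1_le_normalizer : jOf L ⊔ cOf L ≤ Subgroup.normalizer (K : Set G) :=
  sup_le (h.jOf_le_normalizer b) h.cOf_le_normalizer

end

end Cfsg.Agent.Lib.Helper6.JL
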