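import Mathlib
import Cfsg.Agent.Lib.Helper6.JL.JL14

/-! `K` is subnormal in `L`; an element of `L` moving a nontrivial element of `W_K` into `W_K`
normalizes `K`. -/

set_option autoImplicit false

namespace Cfsg.Agent.Lib.Helper6.JL

open Cfsg Cfsg.Agent.Lib.Helper9 Cfsg.Agent.Lib.Helper6 Cfsg.Agent.Lib.Helper6.JC
open Cfsg.Agent.Lib.Helper2.OmegaZ Cfsg.Agent.Lib.Lead.KS93
open scoped commutatorElement

variable {G : Type*} [Group G] [Finite G]

theorem conj_mem_M1 {L : Subgroup G} {l m : G} (hl : l ∈ L) (hm : m ∈ jOf L ⊔ cOf L) :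
    l * m * l⁻¹ ∈ jOf L ⊔ cOf L := by
  have hle : jOf L ⊔ cOf L ≤ (jOf L ⊔ cOf L).comap (MulAut.conj l).toMonoidHom := by
    apply sup_le
    · intro x hx
      rw [Subgroup.mem_comap]
      show (MulAut.conj l) x ∈ _
      rw [MulAut.conj_apply]
      exact Subgroup.mem_sup_left (conj_mem_jOf hl hx)
    · intro x hx
      rw [Subgroup.mem_comap]
      show (MulAut.conj l) x ∈ _
      rw [MulAut.conj_apply]
      exact Subgroup.mem_sup_right (conj_mem_cOf hl hx)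
  have := hle hm
  rw [Subgroup.mem_comap] at this
  exact this

variable {T L K S : Subgroup G} {a₁ g : G}

section
variable (h : KLCtx T L K S) (b : Blk T L K a₁ g)
include h b

/-- `K` is subnormal in `L` (two normal steps through `M₁ = J(L) C_L(V)`) -/
theorem KLCtx.isSubnormal_of_blk : (K.subgroupOf L).IsSubnormal := by
  have hM := h.M1_le_normalizer b
  have hKM : K ≤ jOf L ⊔ cOf L := h.K_le_jOf.trans le_sup_left
  have hN1 : ((jOf L ⊔ cOf L).subgroupOf L).Normal := by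
    refine ⟨fun n hn x => ?_⟩
    rw [Subgroup.mem_subgroupOf] at hn ⊢
    simpa using conj_mem_M1 x.2 hn
  have hN2 : ((K.subgroupOf L).subgroupOf ((jOf L ⊔ cOf L).subgroupOf L)).Normal := by
    refine ⟨fun n hn x => ?_⟩
    rw [Subgroup.mem_subgroupOf, Subgroup.mem_subgroupOf] at hn ⊢
    have hx : ((x : ↥L) : G) ∈ jOf L ⊔ cOf L := Subgroup.mem_subgroupOf.mp x.2
    have := (Subgroup.mem_normalizer_iff.mp (hM hx) _).mp hn
    simpa using this
  apply Subgroup.IsSubnormal.trans (K := (jOf L ⊔ cOf L).subgroupOf L)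
  · intro x hx
    rw [Subgroup.mem_subgroupOf] at hx ⊢
    exact hKM hx
  · exact hN2.isSubnormal
  · exact hN1.isSubnormal

/-- an element of `L` moving a nontrivial element of `W_K` into `W_K` normalizes `K` -/
theorem KLCtx.mem_normalizer_of_meets {l : G} (hl : l ∈ L)
    (hw : ∃ w ∈ wOf K, w ≠ 1 ∧ l * w * l⁻¹ ∈ wOf K) : l ∈ Subgroup.normalizer (K : Set G) := by
  have haL : a₁ ∈ L := h.J_le_L b.ha
  have haJ : a₁ ∈ jOf L := h.J_le_jOf b.ha
  apply Subgroup.mem_normalizer_fintype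
  have hle : K ≤ K.comap (MulAut.conj l).toMonoidHom := by
    conv_lhs => rw [← h.hJ.hK.gen]
    rw [Subgroup.closure_le]
    rintro k ⟨hk, hkodd⟩
    rw [SetLike.mem_coe, Subgroup.mem_comap]
    show (MulAut.conj l) k ∈ K
    rw [MulAut.conj_apply]
    have hkL := h.hKL hk
    obtain ⟨k₁, hk₁, hc⟩ := b.huniq l hl hw k hk
    have hk₁L := h.hKL hk₁
    set x := l * k * l⁻¹ with hx
    have hxL : x ∈ L := L.mul_mem (L.mul_mem hl hkL) (L.inv_mem hl)
    set c := x * k₁⁻¹ with hcdef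
    have hcL : c ∈ L := cOf_le L hc
    -- the subgroup `K^l Q`
    set P : Subgroup G := pCoreOf 2 L ⊔ K.map (MulAut.conj l).toMonoidHom with hP
    have hQP : pCoreOf 2 L ≤ P := le_sup_left
    have hxP : x ∈ P := Subgroup.mem_sup_right ⟨k, hk, rfl⟩
    -- `a₁` normalizes `K^l`
    have hax : a₁ * x * a₁⁻¹ ∈ P := by
      have h1 : l⁻¹ * a₁ * l ∈ jOf L := by
        have := conj_mem_jOf (L.inv_mem hl) haJ
        simpa using this
      have h2 := (Subgroup.mem_normalizer_iff.mp (h.jOf_le_normalizer b h1) k).mp hk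
      refine Subgroup.mem_sup_right ⟨_, h2, ?_⟩
      simp only [MulEquiv.coe_toMonoidHom, MulAut.conj_apply, hx]
      group
    -- elements of `O₂(L)`
    have hq₃ : c⁻¹ * a₁ * c * a₁⁻¹ ∈ pCoreOf 2 L := by
      have h1 := h.hL.comm_jOf_cOf haJ hc
      have e : c⁻¹ * a₁ * c * a₁⁻¹ = c⁻¹ * (a₁ * c * a₁⁻¹ * c⁻¹) * c⁻¹⁻¹ := by group
      rw [e]
      exact conj_mem_pCoreOf (L.inv_mem hcL) h1
    have hq₄ : a₁ * k₁ * a₁⁻¹ * k₁ ∈ pCoreOf 2 L := by
      apply h.mem_pCoreOf_of_mem_cOf b _ (b.hinv k₁ hk₁)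
      exact K.mul_mem ((Subgroup.mem_normalizer_iff.mp (h.hJ.J_le_normalizer b.ha) k₁).mp hk₁) hk₁
    have hq₆ : k₁ ^ 3 ∈ pCoreOf 2 L :=
      h.mem_pCoreOf_of_mem_cOf b (K.pow_mem hk₁ 3) (b.hcube k₁ hk₁)
    have hq₅ : k₁⁻¹ * ((c⁻¹ * a₁ * c * a₁⁻¹) * (a₁ * k₁ * a₁⁻¹ * k₁)) * k₁⁻¹⁻¹ ∈ pCoreOf 2 L :=
      conj_mem_pCoreOf (L.inv_mem hk₁L) ((pCoreOf 2 L).mul_mem hq₃ hq₄)
    -- `k₁ ∈ P`
    have hk₁P : k₁ ∈ P := by
      have e : k₁ = k₁ ^ 3 *
          (k₁⁻¹ * ((c⁻¹ * a₁ * c * a₁⁻¹) * (a₁ * k₁ * a₁⁻¹ * k₁)) * k₁⁻¹⁻¹)⁻¹ *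
          (x⁻¹ * (a₁ * x * a₁⁻¹)) := by
        have hx' : x = c * k₁ := by rw [hcdef]; group
        rw [hx']
        rw [pow_succ, pow_two]
        group
      rw [e]
      exact P.mul_mem (P.mul_mem (hQP hq₆) (P.inv_mem (hQP hq₅)))
        (P.mul_mem (P.inv_mem hxP) hax)
    have hcP : c ∈ P := P.mul_mem hxP (P.inv_mem hk₁P)
    -- `c ∈ O₂(L)`
    have hcQ : c ∈ pCoreOf 2 L := by
      have hnorm : K.map (MulAut.conj l).toMonoidHom ≤
          Subgroup.normalizer ((pCoreOf 2 L : Subgroup G) : Set G) := by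
        rintro _ ⟨k', hk', rfl⟩
        apply Cfsg.Agent.Lib.Lead.Subnormalizer.le_normalizer_pCoreOf 2 L
        simp only [MulEquiv.coe_toMonoidHom, MulAut.conj_apply]
        exact L.mul_mem (L.mul_mem hl (h.hKL hk')) (L.inv_mem hl)
      obtain ⟨q, hq, x', ⟨k', hk', rfl⟩, hcq⟩ := exists_mul_of_mem_sup' hnorm hcP
      simp only [MulEquiv.coe_toMonoidHom, MulAut.conj_apply] at hcq
      have hk'C : k' ∈ cOf L := by
        have h1 : l * k' * l⁻¹ ∈ cOf L := by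
          have : l * k' * l⁻¹ = q⁻¹ * c := by rw [hcq]; group
          rw [this]
          exact (cOf L).mul_mem ((cOf L).inv_mem (h.hL.pCoreOf_le_cOf hq)) hc
        have := conj_mem_cOf (L.inv_mem hl) h1
        have e : l⁻¹ * (l * k' * l⁻¹) * l⁻¹⁻¹ = k' := by group
        rwa [e] at this
      have hk'Q := h.mem_pCoreOf_of_mem_cOf b hk' hk'C
      rw [hcq]
      exact (pCoreOf 2 L).mul_mem hq (conj_mem_pCoreOf hl hk'Q)
    -- conclusion
    apply Cfsg.Agent.S2941.mem_of_odd_order (pCoreOf_isPGroup 2 L) h.pCoreOf_le_normalizer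
    · have e : x = c * k₁ := by rw [hcdef]; group
      rw [e]
      exact Subgroup.mul_mem _ (Subgroup.mem_sup_left hcQ) (Subgroup.mem_sup_right hk₁)
    · rw [hx, orderOf_conj_eq]; exact hkodd
  intro n hn
  have := hle hn
  rw [Subgroup.mem_comap] at this
  exact this

end

end Cfsg.Agent.Lib.Helper6.JL
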