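import Mathlib
import Cfsg.Agent.Lib.Helper6.JL.JL15

/-! The context from the hypotheses of the `J(T)`-component rows, and the first conclusions. -/

set_option autoImplicit false

namespace Cfsg.Agent.Lib.Helper6.JL

open Cfsg Cfsg.Agent.Lib.Helper9 Cfsg.Agent.Lib.Helper6 Cfsg.Agent.Lib.Helper6.JC
open scoped commutatorElement

variable {G : Type*} [Group G] [Finite G]

/-- the `JCtx` of a `J(T)`-component -/
theorem exists_jctx {T K : Subgroup G} (hT : IsPGroup 2 T) (hK : IsJComponent T K) :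
    ∃ S, JCtx K (thompsonSubgroupOf 2 T) S := by
  obtain ⟨hgen, hKJ, hidx, hsyl, hw4, hw2⟩ := hK
  have hJ2 : IsPGroup 2 ↥(thompsonSubgroupOf 2 T) := hT.to_le (thompsonSubgroupOf_le 2 T)
  obtain ⟨S, hS, hJS, habs⟩ := exists_sylowTwoIn
    (X := K ⊔ thompsonSubgroupOf 2 T) (J := thompsonSubgroupOf 2 T) le_sup_right hJ2
  exact ⟨S, ⟨hgen, hidx, hw4, hw2⟩, hJ2, hKJ, hS.1, hS.2.1, hJS, hsyl S hS hJS, habs⟩

theorem exists_klctx
    (hN : ∀ N : Subgroup G, IsTwoLocal N → Group.IsSolvable ↥N)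
    (hZ : ∀ S : Sylow 2 G, Subgroup.centralizer (omegaCenterOf (S : Subgroup G) : Set G) ≤
      Subgroup.normalizer ((S : Subgroup G) : Set G))
    {T : Subgroup G} (hT : IsPGroup 2 T) (hT1 : T ≠ ⊥) {L : Subgroup G} (hLT : L ∈ jOvergroups T)
    {K : Subgroup G} (hK : IsJComponent T K) (hKL : K ≤ L) : ∃ S, KLCtx T L K S := by
  obtain ⟨S, hS⟩ := exists_jctx hT hK
  exact ⟨S, lctx_of_mem_jOvergroups hN hZ hT1 hLT, hS, hKL⟩

/-- S2942 -/
theorem jcomp_isSubnormal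
    (hN : ∀ N : Subgroup G, IsTwoLocal N → Group.IsSolvable ↥N)
    (hZ : ∀ S : Sylow 2 G, Subgroup.centralizer (omegaCenterOf (S : Subgroup G) : Set G) ≤
      Subgroup.normalizer ((S : Subgroup G) : Set G))
    {T : Subgroup G} (hT : IsPGroup 2 T) (hT1 : T ≠ ⊥) {L : Subgroup G} (hLT : L ∈ jOvergroups T)
    {K : Subgroup G} (hK : IsJComponent T K) (hKL : K ≤ L) : (K.subgroupOf L).IsSubnormal := by
  obtain ⟨S, h⟩ := exists_klctx hN hZ hT hT1 hLT hK hKL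
  obtain ⟨a₁, g, b⟩ := h.exists_blk
  exact h.isSubnormal_of_blk b

/-- the uniqueness statement behind S2943 and S2944 -/
theorem jcomp_mem_normalizer_of_meets
    (hN : ∀ N : Subgroup G, IsTwoLocal N → Group.IsSolvable ↥N)
    (hZ : ∀ S : Sylow 2 G, Subgroup.centralizer (omegaCenterOf (S : Subgroup G) : Set G) ≤
      Subgroup.normalizer ((S : Subgroup G) : Set G))
    {T : Subgroup G} (hT : IsPGroup 2 T) (hT1 : T ≠ ⊥) {L : Subgroup G} (hLT : L ∈ jOvergroups T)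
    {K : Subgroup G} (hK : IsJComponent T K) (hKL : K ≤ L) {l : G} (hl : l ∈ L)
    (hw : ∃ w ∈ wOf K, w ≠ 1 ∧ l * w * l⁻¹ ∈ wOf K) : l ∈ Subgroup.normalizer (K : Set G) := by
  obtain ⟨S, h⟩ := exists_klctx hN hZ hT hT1 hLT hK hKL
  obtain ⟨a₁, g, b⟩ := h.exists_blk
  exact h.mem_normalizer_of_meets b hl hw

/-- S2943 -/
theorem jcomp_T_le_normalizer
    (hN : ∀ N : Subgroup G, IsTwoLocal N → Group.IsSolvable ↥N)
    (hZ : ∀ S : Sylow 2 G, Subgroup.centralizer (omegaCenterOf (S : Subgroup G) : Set G) ≤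
      Subgroup.normalizer ((S : Subgroup G) : Set G))
    {T : Subgroup G} (hT : IsPGroup 2 T) (hT1 : T ≠ ⊥) {L : Subgroup G} (hLT : L ∈ jOvergroups T)
    {K : Subgroup G} (hK : IsJComponent T K) (hKL : K ≤ L)
    (hZW : T ⊓ Subgroup.centralizer (T : Set G) ⊓ wOf K ≠ ⊥) :
    T ≤ Subgroup.normalizer (K : Set G) := by
  obtain ⟨z, hz, hz1⟩ : ∃ z ∈ T ⊓ Subgroup.centralizer (T : Set G) ⊓ wOf K, z ≠ 1 := by
    by_contra hcon
    push Not at hcon
    exact hZW ((Subgroup.eq_bot_iff_forall _).mpr hcon)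
  obtain ⟨hz', hzW⟩ := Subgroup.mem_inf.mp hz
  obtain ⟨-, hzc⟩ := Subgroup.mem_inf.mp hz'
  intro t ht
  apply jcomp_mem_normalizer_of_meets hN hZ hT hT1 hLT hK hKL (hLT.1.1 ht)
  refine ⟨z, hzW, hz1, ?_⟩
  have := (Subgroup.mem_centralizer_iff.mp hzc) t ht
  have e : t * z * t⁻¹ = z := by rw [this]; group
  rw [e]; exact hzW

end Cfsg.Agent.Lib.Helper6.JL
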