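import Mathlib
import Cfsg.Agent.Lib.Helper6.JL.JL16
import Cfsg.Agent.Lib.Helper6.PGroupFix

/-! `N_G(K) = N_G(W_K)` for `K ∈ 𝒦₀(T)` (S2944, first part). -/

set_option autoImplicit false

namespace Cfsg.Agent.Lib.Helper6.JL

open Cfsg Cfsg.Agent.Lib.Helper9 Cfsg.Agent.Lib.Helper6 Cfsg.Agent.Lib.Helper6.JC
open scoped commutatorElement

variable {G : Type*} [Group G] [Finite G]

/-- a nontrivial subgroup of `W_K` invariant under an odd-order element of `K` outside `O₂(K)`
is `W_K` -/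
theorem _root_.Cfsg.Agent.Lib.Helper6.JC.KData.eq_wOf_of_invariant {K : Subgroup G} (hK : KData K)
    {C : Subgroup G} (hCW : C ≤ wOf K) (hne : C ≠ ⊥) {g : G} (hg : g ∈ K) (hodd : Odd (orderOf g))
    (hgQ : g ∉ pCoreOf 2 K) (hinv : ∀ w ∈ C, g * w * g⁻¹ ∈ C) : C = wOf K := by
  by_contra hlt
  have hc2 := card_eq_two_of_lt_of_ne_bot hK.w4 hCW hne hlt
  obtain ⟨w, hw, hw1⟩ : ∃ w ∈ C, w ≠ 1 := by
    by_contra hcon
    push Not at hcon
    exact hne ((Subgroup.eq_bot_iff_forall C).mpr hcon)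
  have hgw1 : g * w * g⁻¹ ≠ 1 := by
    intro h0
    apply hw1
    have : w = g⁻¹ * (g * w * g⁻¹) * g := by group
    rw [this, h0]; group
  have hfix := eq_of_card_two hc2 hw (hinv w hw) hw1 hgw1
  exact hw1 (hK.fixes_none hg hodd hgQ (hCW hw) hfix)

theorem mem_normalizer_wOf_of_mem_normalizer {K : Subgroup G} {x : G}
    (hx : x ∈ Subgroup.normalizer (K : Set G)) :
    x ∈ Subgroup.normalizer ((wOf K : Subgroup G) : Set G) := by
  apply Subgroup.mem_normalizer_fintype
  intro w hw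
  exact conj_mem_wOf hx hw

/-- `N_G(K) = N_G(W_K)` for `K ∈ 𝒦₀(T)` -/
theorem normalizer_eq_of_mem_jComponentsZero (hL : IsCharacteristicTwoType G)
    (hN : ∀ N : Subgroup G, IsTwoLocal N → Group.IsSolvable ↥N)
    (hZ : ∀ S : Sylow 2 G, Subgroup.centralizer (omegaCenterOf (S : Subgroup G) : Set G) ≤
      Subgroup.normalizer ((S : Subgroup G) : Set G))
    {T : Subgroup G} (hT : IsPGroup 2 T) {K : Subgroup G} (hK : K ∈ jComponentsZero T) :
    Subgroup.normalizer (K : Set G) = Subgroup.normalizer ((wOf K : Subgroup G) : Set G) := by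
  haveI : Fact (Nat.Prime 2) := ⟨Nat.prime_two⟩
  apply le_antisymm
  · intro x hx
    exact mem_normalizer_wOf_of_mem_normalizer hx
  obtain ⟨hKJ, hzero⟩ := hK
  obtain ⟨S, hctx⟩ := exists_jctx hT hKJ
  set J := thompsonSubgroupOf 2 T with hJ
  set W := wOf K with hW
  set N := Subgroup.normalizer ((W : Subgroup G) : Set G) with hNdef
  have hW2 : IsPGroup 2 W := hctx.wOf_isPGroup
  have hWne : W ≠ ⊥ := hctx.hK.wOf_ne_bot
  have hJN : J ≤ N := fun j hj => mem_normalizer_wOf_of_mem_normalizer (hctx.J_le_normalizer hj)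
  have hKN : K ≤ N := fun k hk => mem_normalizer_wOf_of_mem_normalizer (Subgroup.le_normalizer hk)
  have hWN : W ≤ N := Subgroup.le_normalizer
  obtain ⟨S₁, hS₁, hJS₁, -⟩ := exists_sylowTwoIn (X := N) (J := J) hJN hctx.hJ2
  have hth : thompsonSubgroupOf 2 S₁ = J := hzero S₁ hJS₁ hS₁
  -- `O₂(N)` centralizes `W`
  set R := pCoreOf 2 N with hR
  have hWR : W ≤ R := Cfsg.Agent.Lib.Lead.Subnormalizer.le_pCoreOf hWN hW2 le_rfl
  have hRN : R ≤ N := pCoreOf_le N
  have hRW : R ≤ Subgroup.centralizer ((W : Subgroup G) : Set G) := by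
    obtain ⟨u, hu, hu1, huc⟩ := exists_ne_one_mem_centralizer_of_pgroups 2 W R hW2
      (pCoreOf_isPGroup 2 N) hRN hWne
    obtain ⟨g, hg, hodd, hgQ⟩ := hctx.hK.exists_odd
    have hC₀ : W ⊓ Subgroup.centralizer ((R : Subgroup G) : Set G) = W := by
      apply hctx.hK.eq_wOf_of_invariant inf_le_left _ hg hodd hgQ
      · intro w hw
        obtain ⟨hwW, hwc⟩ := Subgroup.mem_inf.mp hw
        refine Subgroup.mem_inf.mpr ⟨conj_mem_wOf (Subgroup.le_normalizer hg) hwW, ?_⟩
        rw [Subgroup.mem_centralizer_iff]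
        intro r hr
        have hr' : g⁻¹ * r * g ∈ R := by
          have := conj_mem_pCoreOf (L := N) (N.inv_mem (hKN hg)) hr
          simpa using this
        have h1 := (Subgroup.mem_centralizer_iff.mp hwc) _ hr'
        calc r * (g * w * g⁻¹) = g * ((g⁻¹ * r * g) * w) * g⁻¹ := by group
          _ = g * (w * (g⁻¹ * r * g)) * g⁻¹ := by rw [h1]
          _ = g * w * g⁻¹ * r := by group
      · intro h0
        have : u ∈ W ⊓ Subgroup.centralizer ((R : Subgroup G) : Set G) :=
          Subgroup.mem_inf.mpr ⟨hu, huc⟩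
        rw [h0, Subgroup.mem_bot] at this
        exact hu1 this
    intro r hr
    rw [Subgroup.mem_centralizer_iff]
    intro w hw
    rw [← hC₀] at hw
    exact ((Subgroup.mem_centralizer_iff.mp (Subgroup.mem_inf.mp hw).2) r hr).symm
  -- `N ∈ 𝓛(S₁)`
  have hNL : N ∈ jOvergroups S₁ := by
    refine ⟨hS₁, ?_, ?_⟩
    · rw [hth]
      intro hcon
      exact hctx.not_centralizes (hcon.trans hRW)
    · intro x hx
      have hxW : x ∈ Subgroup.centralizer ((W : Subgroup G) : Set G) :=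
        Subgroup.centralizer_le (by exact_mod_cast hWR) hx
      have hxN : x ∈ N := by
        rw [Subgroup.mem_normalizer_iff]
        intro w
        have e : ∀ w' ∈ W, x * w' * x⁻¹ = w' := fun w' hw' => by
          have := (Subgroup.mem_centralizer_iff.mp hxW) w' hw'
          rw [← this]; group
        constructor
        · intro hw; rw [e w hw]; exact hw
        · intro hw
          have h1 : x⁻¹ * (x * w * x⁻¹) * x = x * w * x⁻¹ := by
            have h2 := (Subgroup.mem_centralizer_iff.mp hxW) _ hw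
            calc x⁻¹ * (x * w * x⁻¹) * x = x⁻¹ * ((x * w * x⁻¹) * x) := by group
              _ = x⁻¹ * (x * (x * w * x⁻¹)) := by rw [h2]
              _ = x * w * x⁻¹ := by group
          have h3 : x⁻¹ * (x * w * x⁻¹) * x = w := by group
          rw [← h3, h1]; exact hw
      have hchar := hL.2 W hW2 hWne
      have hx' : (⟨x, hxN⟩ : ↥N) ∈ Subgroup.centralizer ((pCore 2 ↥N : Subgroup ↥N) : Set ↥N) := by
        rw [Subgroup.mem_centralizer_iff]
        intro y hy
        apply Subtype.ext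
        exact (Subgroup.mem_centralizer_iff.mp hx) (y : G) ⟨y, hy, rfl⟩
      exact ⟨⟨x, hxN⟩, hchar hx', rfl⟩
  have hS₁1 : S₁ ≠ ⊥ := by
    intro h0
    apply hctx.not_centralizes
    intro j hj
    have := hJS₁ hj
    rw [h0, Subgroup.mem_bot] at this
    rw [this]; exact Subgroup.one_mem _
  have hKJ₁ : IsJComponent S₁ K := by
    unfold IsJComponent
    rw [hth]
    exact hKJ
  intro n hn
  apply jcomp_mem_normalizer_of_meets hN hZ hS₁.2.1 hS₁1 hNL hKJ₁ hKN hn
  obtain ⟨w, hw, hw1⟩ : ∃ w ∈ W, w ≠ 1 := by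
    by_contra hcon
    push Not at hcon
    exact hWne ((Subgroup.eq_bot_iff_forall W).mpr hcon)
  exact ⟨w, hw, hw1, (Subgroup.mem_normalizer_iff.mp hn w).mp hw⟩

end Cfsg.Agent.Lib.Helper6.JL
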