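import Mathlib
import Cfsg.Agent.Lib.Helper6.JL.JL17

/-! Towards S2950: the conclusion of S2948 as a hypothesis `H48 M T`, and its first consequences
(`N_G(J(T)) ≤ M`, outside components are in `𝒦₀(T)`, their normalizers are 2-locals). -/

set_option autoImplicit false

namespace Cfsg.Agent.Lib.Helper6.JL

open Cfsg Cfsg.Agent.Lib.Helper9 Cfsg.Agent.Lib.Helper6 Cfsg.Agent.Lib.Helper6.JC
open scoped commutatorElement

variable {G : Type*} [Group G]

/-- what S2948 provides for `T ∈ 𝒯*(M)` -/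
def H48 (M T : Subgroup G) : Prop :=
  ∀ L : Subgroup G, IsTwoLocal L → ¬ L ≤ M → ∀ T₀ : Subgroup G, IsSylowTwoIn T₀ L →
    thompsonSubgroupOf 2 T ≤ T₀ →
    thompsonSubgroupOf 2 T = thompsonSubgroupOf 2 T₀ ∧ L ∈ jOvergroups T₀ ∧
      (T ≤ L → L ∈ jOvergroups T)

/-- `IsJComponent T K` only depends on `J(T)` -/
theorem isJComponent_of_thompson_eq {T T' K : Subgroup G}
    (h : thompsonSubgroupOf 2 T = thompsonSubgroupOf 2 T') (hK : IsJComponent T K) :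
    IsJComponent T' K := by
  unfold IsJComponent at hK ⊢
  rw [← h]
  exact hK

variable [Finite G]

/-- the data of a `J(T)`-component not contained in `M` -/
structure OutCtx (M T K : Subgroup G) : Prop where
  hL : IsCharacteristicTwoType G
  hN : ∀ N : Subgroup G, IsTwoLocal N → Group.IsSolvable ↥N
  hZ : ∀ S : Sylow 2 G, Subgroup.centralizer (omegaCenterOf (S : Subgroup G) : Set G) ≤
      Subgroup.normalizer ((S : Subgroup G) : Set G)
  hT2 : IsPGroup 2 T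
  h48 : H48 M T
  hK : IsJComponent T K
  hKM : ¬ K ≤ M

section

variable {M T K : Subgroup G} (h : OutCtx M T K)
include h

theorem OutCtx.J_isPGroup : IsPGroup 2 (thompsonSubgroupOf 2 T) :=
  h.hT2.to_le (thompsonSubgroupOf_le 2 T)

theorem OutCtx.J_le_normalizer : thompsonSubgroupOf 2 T ≤ Subgroup.normalizer (K : Set G) := by
  obtain ⟨S, hctx⟩ := exists_jctx h.hT2 h.hK
  exact hctx.J_le_normalizer

theorem OutCtx.J_ne_bot : thompsonSubgroupOf 2 T ≠ ⊥ := by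
  obtain ⟨S, hctx⟩ := exists_jctx h.hT2 h.hK
  intro h0
  apply hctx.not_centralizes
  rw [h0]
  exact bot_le

theorem OutCtx.wOf_isPGroup : IsPGroup 2 (wOf K) := by
  obtain ⟨S, hctx⟩ := exists_jctx h.hT2 h.hK
  exact hctx.wOf_isPGroup

theorem OutCtx.wOf_ne_bot : wOf K ≠ ⊥ := by
  obtain ⟨S, hctx⟩ := exists_jctx h.hT2 h.hK
  exact hctx.hK.wOf_ne_bot

theorem OutCtx.wOf_le : wOf K ≤ K := by
  obtain ⟨S, hctx⟩ := exists_jctx h.hT2 h.hK
  exact (wOf_le_pCoreOf K).trans (pCoreOf_le K)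

/-- a 2-local containing `J(T)` and not inside `M` has a Sylow 2-subgroup `T₀ ⊇ J(T)` with
`J(T₀) = J(T)` and lies in `𝓛(T₀)` -/
theorem OutCtx.exists_sylow {L : Subgroup G} (hL2 : IsTwoLocal L) (hLM : ¬ L ≤ M)
    (hJL : thompsonSubgroupOf 2 T ≤ L) :
    ∃ T₀ : Subgroup G, IsSylowTwoIn T₀ L ∧ thompsonSubgroupOf 2 T ≤ T₀ ∧
      thompsonSubgroupOf 2 T = thompsonSubgroupOf 2 T₀ ∧ L ∈ jOvergroups T₀ ∧ T₀ ≠ ⊥ := by
  obtain ⟨T₀, hT₀, hJT₀, -⟩ := exists_sylowTwoIn hJL h.J_isPGroup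
  obtain ⟨h1, h2, -⟩ := h.h48 L hL2 hLM T₀ hT₀ hJT₀
  refine ⟨T₀, hT₀, hJT₀, h1, h2, ?_⟩
  intro h0
  apply h.J_ne_bot
  rw [eq_bot_iff, ← h0]
  exact hJT₀

/-- `N_G(J(T)) ≤ M` -/
theorem OutCtx.normalizer_thompson_le :
    Subgroup.normalizer ((thompsonSubgroupOf 2 T : Subgroup G) : Set G) ≤ M := by
  by_contra hcon
  set J := thompsonSubgroupOf 2 T with hJ
  have hL2 : IsTwoLocal (Subgroup.normalizer ((J : Subgroup G) : Set G)) :=
    ⟨J, h.J_isPGroup, h.J_ne_bot, rfl⟩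
  obtain ⟨T₀, hT₀, hJT₀, hJeq, hLT₀, -⟩ := h.exists_sylow hL2 hcon Subgroup.le_normalizer
  apply hLT₀.2.1
  rw [← hJeq]
  exact Cfsg.Agent.Lib.Lead.Subnormalizer.le_pCoreOf Subgroup.le_normalizer h.J_isPGroup le_rfl

/-- `K ∈ 𝒦₀(T)` -/
theorem OutCtx.mem_jComponentsZero : K ∈ jComponentsZero T := by
  refine ⟨h.hK, ?_⟩
  intro S hJS hS
  set W := wOf K with hW
  have hL2 : IsTwoLocal (Subgroup.normalizer ((W : Subgroup G) : Set G)) :=
    ⟨W, h.wOf_isPGroup, h.wOf_ne_bot, rfl⟩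
  have hKN : K ≤ Subgroup.normalizer ((W : Subgroup G) : Set G) :=
    fun k hk => mem_normalizer_wOf_of_mem_normalizer (Subgroup.le_normalizer hk)
  have hLM : ¬ Subgroup.normalizer ((W : Subgroup G) : Set G) ≤ M := fun hc => h.hKM (hKN.trans hc)
  exact (h.h48 _ hL2 hLM S hS hJS).1.symm

/-- `N_G(K) = N_G(W_K)` -/
theorem OutCtx.normalizer_eq :
    Subgroup.normalizer (K : Set G) = Subgroup.normalizer ((wOf K : Subgroup G) : Set G) :=
  normalizer_eq_of_mem_jComponentsZero h.hL h.hN h.hZ h.hT2 h.mem_jComponentsZero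

/-- `N_G(K)` is a 2-local -/
theorem OutCtx.normalizer_isTwoLocal : IsTwoLocal (Subgroup.normalizer (K : Set G)) :=
  ⟨wOf K, h.wOf_isPGroup, h.wOf_ne_bot, h.normalizer_eq⟩

theorem OutCtx.normalizer_not_le : ¬ Subgroup.normalizer (K : Set G) ≤ M :=
  fun hc => h.hKM (Subgroup.le_normalizer.trans hc)

theorem OutCtx.not_le_of_le {L : Subgroup G} (hKL : K ≤ L) : ¬ L ≤ M :=
  fun hc => h.hKM (hKL.trans hc)

end

end Cfsg.Agent.Lib.Helper6.JL
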