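import Mathlib
import Cfsg.Agent.Lib.Helper6.JL.JL18
import Cfsg.Agent.Lib.Helper9.JU1

/-! Towards S2950: the set of `J(T)`-components of a subgroup, and the facts (C), (D) of the
uniqueness proof. -/

set_option autoImplicit false

namespace Cfsg.Agent.Lib.Helper6.JL

open Cfsg Cfsg.Agent.Lib.Helper9 Cfsg.Agent.Lib.Helper6 Cfsg.Agent.Lib.Helper6.JC
open Cfsg.Agent.Lib.Helper9.JU
open scoped commutatorElement

variable {G : Type*} [Group G]

/-- the `J(T)`-components contained in `H` -/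
def compSet (T H : Subgroup G) : Set (Subgroup G) := {K | IsJComponent T K ∧ K ≤ H}

/-- the subgroup generated by the `J(T)`-components contained in `H` -/
def eOf (T H : Subgroup G) : Subgroup G := sSup (compSet T H)

theorem eOf_le (T H : Subgroup G) : eOf T H ≤ H := sSup_le fun _ hK => hK.2

theorem le_eOf {T H K : Subgroup G} (hK : K ∈ compSet T H) : K ≤ eOf T H := le_sSup hK

/-- conjugation by `x` maps `E(H)` into itself if it maps components of `H` to components of `H` -/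
theorem map_eOf_le {T H : Subgroup G} {x : G}
    (hx : ∀ K ∈ compSet T H, K.map (MulAut.conj x).toMonoidHom ∈ compSet T H) :
    (eOf T H).map (MulAut.conj x).toMonoidHom ≤ eOf T H := by
  unfold eOf
  rw [Subgroup.map_le_iff_le_comap]
  apply sSup_le
  intro K hK
  rw [← Subgroup.map_le_iff_le_comap]
  exact le_sSup (hx K hK)

variable [Finite G]

theorem map_eOf_eq {T H : Subgroup G} {x : G}
    (hx : ∀ K ∈ compSet T H, K.map (MulAut.conj x).toMonoidHom ∈ compSet T H) :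
    (eOf T H).map (MulAut.conj x).toMonoidHom = eOf T H := by
  apply Subgroup.eq_of_le_of_card_ge (map_eOf_le hx)
  rw [Cfsg.Agent.Lib.Helper9.card_map_conj]

/-- then `x` normalizes `O₂(E(H))` -/
theorem mem_normalizer_pCoreOf_eOf {T H : Subgroup G} {x : G}
    (hx : ∀ K ∈ compSet T H, K.map (MulAut.conj x).toMonoidHom ∈ compSet T H) :
    x ∈ Subgroup.normalizer ((pCoreOf 2 (eOf T H) : Subgroup G) : Set G) := by
  apply Subgroup.mem_normalizer_fintype
  intro u hu
  have h1 : x * u * x⁻¹ ∈ (pCoreOf 2 (eOf T H)).map (MulAut.conj x).toMonoidHom :=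
    ⟨u, hu, by simp [MulAut.conj_apply]⟩
  rw [pCoreOf_map_conj, map_eOf_eq hx] at h1
  exact h1

/-- (C'): in `L ∈ 𝓛(T₀)` with `J(T₀) = J(T)`, every `J(T)`-component of `L` lies in `J(L)` and is
normalized by `J(L)` -/
theorem comp_in_overgroup
    (hN : ∀ N : Subgroup G, IsTwoLocal N → Group.IsSolvable ↥N)
    (hZ : ∀ S : Sylow 2 G, Subgroup.centralizer (omegaCenterOf (S : Subgroup G) : Set G) ≤
      Subgroup.normalizer ((S : Subgroup G) : Set G))
    {T T₀ L : Subgroup G} (hJ : thompsonSubgroupOf 2 T = thompsonSubgroupOf 2 T₀)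
    (hT₀1 : T₀ ≠ ⊥) (hLT₀ : L ∈ jOvergroups T₀) {K : Subgroup G} (hK : IsJComponent T K)
    (hKL : K ≤ L) : jOf L ≤ Subgroup.normalizer (K : Set G) ∧ K ≤ jOf L := by
  have hK₀ : IsJComponent T₀ K := isJComponent_of_thompson_eq hJ hK
  obtain ⟨S, h⟩ := exists_klctx hN hZ hLT₀.1.2.1 hT₀1 hLT₀ hK₀ hKL
  obtain ⟨a₁, g, b⟩ := h.exists_blk
  exact ⟨h.jOf_le_normalizer b, h.K_le_jOf⟩

/-- Frattini in `L ∈ 𝓛(T₀)` with `J(T₀) = J(T)` -/
theorem exists_factor
    (hN : ∀ N : Subgroup G, IsTwoLocal N → Group.IsSolvable ↥N)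
    (hZ : ∀ S : Sylow 2 G, Subgroup.centralizer (omegaCenterOf (S : Subgroup G) : Set G) ≤
      Subgroup.normalizer ((S : Subgroup G) : Set G))
    {T T₀ L : Subgroup G} (hJ : thompsonSubgroupOf 2 T = thompsonSubgroupOf 2 T₀)
    (hT₀1 : T₀ ≠ ⊥) (hLT₀ : L ∈ jOvergroups T₀) {x : G} (hx : x ∈ L) :
    ∃ j ∈ jOf L, ∃ n ∈ L,
      n ∈ Subgroup.normalizer ((thompsonSubgroupOf 2 T : Subgroup G) : Set G) ∧ x = j * n := by
  have h := lctx_of_mem_jOvergroups hN hZ hT₀1 hLT₀
  rw [hJ]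
  exact exists_jOf_mul_normalizer h hx

section

variable {M T K : Subgroup G} (h : OutCtx M T K)
include h

/-- (C): a 2-local containing `K ⊔ J(T)`: its `J(L)` normalizes `K` and its components lie in
`N_G(K)` -/
theorem OutCtx.claimC {L : Subgroup G} (hL2 : IsTwoLocal L) (hKL : K ≤ L)
    (hJL : thompsonSubgroupOf 2 T ≤ L) :
    jOf L ≤ Subgroup.normalizer (K : Set G) ∧
      compSet T L ⊆ compSet T (Subgroup.normalizer (K : Set G)) := by
  obtain ⟨T₀, hT₀, hJT₀, hJeq, hLT₀, hT₀1⟩ := h.exists_sylow hL2 (h.not_le_of_le hKL) hJL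
  have h1 := (comp_in_overgroup h.hN h.hZ hJeq hT₀1 hLT₀ h.hK hKL).1
  refine ⟨h1, ?_⟩
  intro K' hK'
  exact ⟨hK'.1, (comp_in_overgroup h.hN h.hZ hJeq hT₀1 hLT₀ hK'.1 hK'.2).2.trans h1⟩

/-- `K` is a component of `N_G(K)` -/
theorem OutCtx.mem_compSet : K ∈ compSet T (Subgroup.normalizer (K : Set G)) :=
  ⟨h.hK, Subgroup.le_normalizer⟩

end

/-- (D): an outside component `K'` of `N_G(K)` has the same component set -/
theorem OutCtx.claimD {M T K K' : Subgroup G} (h : OutCtx M T K)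
    (hK' : K' ∈ compSet T (Subgroup.normalizer (K : Set G))) (hK'M : ¬ K' ≤ M) :
    compSet T (Subgroup.normalizer (K' : Set G)) = compSet T (Subgroup.normalizer (K : Set G)) := by
  have h' : OutCtx M T K' := ⟨h.hL, h.hN, h.hZ, h.hT2, h.h48, hK'.1, hK'M⟩
  have h1 := h'.claimC h.normalizer_isTwoLocal hK'.2 h.J_le_normalizer
  have hKK' : K ≤ Subgroup.normalizer (K' : Set G) := (h1.2 h.mem_compSet).2
  have h2 := h.claimC h'.normalizer_isTwoLocal hKK' h'.J_le_normalizer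
  exact Set.Subset.antisymm h2.2 h1.2

end Cfsg.Agent.Lib.Helper6.JL
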