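import Mathlib
import Cfsg.Agent.Lib.Helper6.JL.JL19
import Cfsg.Agent.Lib.Helper8.JT1

/-! S2950: the 2-local `L* = N_G(O₂(E))`, `E` generated by the `J(T)`-components of `N_G(K)`,
contains every 2-local over `K ⊔ J(T)`; the final statement. -/

set_option autoImplicit false

namespace Cfsg.Agent.Lib.Helper6.JL

open Cfsg Cfsg.Agent.Lib.Helper9 Cfsg.Agent.Lib.Helper6 Cfsg.Agent.Lib.Helper6.JC
open Cfsg.Agent.Lib.Helper9.JU
open scoped commutatorElement

variable {G : Type*} [Group G]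

theorem map_conj_le_of_mem {K H : Subgroup G} {n : G} (hK : K ≤ H) (hn : n ∈ H) :
    K.map (MulAut.conj n).toMonoidHom ≤ H := by
  rintro _ ⟨k, hk, rfl⟩
  simp only [MulEquiv.coe_toMonoidHom, MulAut.conj_apply]
  exact H.mul_mem (H.mul_mem hn (hK hk)) (H.inv_mem hn)

theorem le_of_map_conj_le {K H : Subgroup G} {n : G} (hK : K.map (MulAut.conj n).toMonoidHom ≤ H)
    (hn : n ∈ H) : K ≤ H := by
  intro k hk
  have h1 : n * k * n⁻¹ ∈ H := hK ⟨k, hk, by simp [MulAut.conj_apply]⟩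
  have e : k = n⁻¹ * (n * k * n⁻¹) * n := by group
  rw [e]
  exact H.mul_mem (H.mul_mem (H.inv_mem hn) h1) hn

theorem map_conj_mul (K : Subgroup G) (a b : G) :
    K.map (MulAut.conj (a * b)).toMonoidHom =
      (K.map (MulAut.conj b).toMonoidHom).map (MulAut.conj a).toMonoidHom := by
  rw [Subgroup.map_map]
  congr 1
  ext x
  simp [MulAut.conj_apply, mul_assoc]

theorem map_conj_normalizer (K : Subgroup G) (n : G) :
    (Subgroup.normalizer (K : Set G)).map (MulAut.conj n).toMonoidHom =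
      Subgroup.normalizer ((K.map (MulAut.conj n).toMonoidHom : Subgroup G) : Set G) :=
  Subgroup.map_equiv_normalizer_eq K (MulAut.conj n)

variable [Finite G]

/-- the 2-local `L*` -/
def lStar (T K : Subgroup G) : Subgroup G :=
  Subgroup.normalizer ((pCoreOf 2 (eOf T (Subgroup.normalizer (K : Set G))) : Subgroup G) : Set G)

section

variable {M T K : Subgroup G} (h : OutCtx M T K)
include h

theorem OutCtx.wOf_le_pCoreOf_eOf :
    wOf K ≤ pCoreOf 2 (eOf T (Subgroup.normalizer (K : Set G))) := by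
  apply Cfsg.Agent.Lib.Lead.Subnormalizer.le_pCoreOf (h.wOf_le.trans (le_eOf h.mem_compSet))
    h.wOf_isPGroup
  rw [← h.normalizer_eq]
  exact eOf_le _ _

theorem OutCtx.lStar_isTwoLocal : IsTwoLocal (lStar T K) := by
  refine ⟨pCoreOf 2 (eOf T (Subgroup.normalizer (K : Set G))), pCoreOf_isPGroup 2 _, ?_, rfl⟩
  intro h0
  apply h.wOf_ne_bot
  rw [eq_bot_iff, ← h0]
  exact h.wOf_le_pCoreOf_eOf

/-- an element of `N_G(J(T))` in a 2-local over `K ⊔ J(T)` permutes the components of `N_G(K)` -/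
theorem OutCtx.conj_compSet {L : Subgroup G} (hL2 : IsTwoLocal L) (hKL : K ≤ L)
    (hJL : thompsonSubgroupOf 2 T ≤ L) {n : G} (hnL : n ∈ L)
    (hn : n ∈ Subgroup.normalizer ((thompsonSubgroupOf 2 T : Subgroup G) : Set G)) :
    ∀ K' ∈ compSet T (Subgroup.normalizer (K : Set G)),
      K'.map (MulAut.conj n).toMonoidHom ∈ compSet T (Subgroup.normalizer (K : Set G)) := by
  have hnM : n ∈ M := h.normalizer_thompson_le hn
  -- `K^n` is an outside component of `N_G(K)`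
  have hKn : IsJComponent T (K.map (MulAut.conj n).toMonoidHom) :=
    isJComponent_map_conj_of_mem_normalizer h.hK hn
  have hKnL : K.map (MulAut.conj n).toMonoidHom ≤ L := map_conj_le_of_mem hKL hnL
  have hKnN : K.map (MulAut.conj n).toMonoidHom ∈ compSet T (Subgroup.normalizer (K : Set G)) :=
    (h.claimC hL2 hKL hJL).2 ⟨hKn, hKnL⟩
  have hKnM : ¬ K.map (MulAut.conj n).toMonoidHom ≤ M := fun hc => h.hKM (le_of_map_conj_le hc hnM)
  have hD := h.claimD hKnN hKnM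
  intro K' hK'
  rw [← hD]
  refine ⟨isJComponent_map_conj_of_mem_normalizer hK'.1 hn, ?_⟩
  rw [← map_conj_normalizer]
  exact Subgroup.map_mono hK'.2

/-- an element of `N_G(J(T))` in a 2-local over `K ⊔ J(T)` lies in `L*` -/
theorem OutCtx.mem_lStar_of_mem_normalizer {L : Subgroup G} (hL2 : IsTwoLocal L) (hKL : K ≤ L)
    (hJL : thompsonSubgroupOf 2 T ≤ L) {n : G} (hnL : n ∈ L)
    (hn : n ∈ Subgroup.normalizer ((thompsonSubgroupOf 2 T : Subgroup G) : Set G)) :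
    n ∈ lStar T K :=
  mem_normalizer_pCoreOf_eOf (h.conj_compSet hL2 hKL hJL hnL hn)

/-- (E): `N_G(K) ≤ L*` -/
theorem OutCtx.normalizer_le_lStar : Subgroup.normalizer (K : Set G) ≤ lStar T K := by
  have hL2 := h.normalizer_isTwoLocal
  have hKL : K ≤ Subgroup.normalizer (K : Set G) := Subgroup.le_normalizer
  have hJL := h.J_le_normalizer
  obtain ⟨T₀, hT₀, hJT₀, hJeq, hLT₀, hT₀1⟩ := h.exists_sylow hL2 (h.not_le_of_le hKL) hJL
  intro x hx
  obtain ⟨j, hj, n, hnL, hn, rfl⟩ := exists_factor h.hN h.hZ hJeq hT₀1 hLT₀ hx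
  apply (lStar T K).mul_mem _ (h.mem_lStar_of_mem_normalizer hL2 hKL hJL hnL hn)
  apply mem_normalizer_pCoreOf_eOf
  intro K' hK'
  have h1 := (comp_in_overgroup h.hN h.hZ hJeq hT₀1 hLT₀ hK'.1 hK'.2).1 hj
  rw [Cfsg.Agent.Lib.Helper8.JT.map_conj_of_mem_normalizer h1]
  exact hK'

/-- (F): every 2-local over `K ⊔ J(T)` lies in `L*` -/
theorem OutCtx.le_lStar {L : Subgroup G} (hL2 : IsTwoLocal L) (hKL : K ≤ L)
    (hJL : thompsonSubgroupOf 2 T ≤ L) : L ≤ lStar T K := by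
  obtain ⟨T₀, hT₀, hJT₀, hJeq, hLT₀, hT₀1⟩ := h.exists_sylow hL2 (h.not_le_of_le hKL) hJL
  have hC := h.claimC hL2 hKL hJL
  intro x hx
  obtain ⟨j, hj, n, hnL, hn, rfl⟩ := exists_factor h.hN h.hZ hJeq hT₀1 hLT₀ hx
  exact (lStar T K).mul_mem (h.normalizer_le_lStar (hC.1 hj))
    (h.mem_lStar_of_mem_normalizer hL2 hKL hJL hnL hn)

end

/-- S2950 from S2948 -/
theorem unique_maximal_two_local (hL : IsCharacteristicTwoType G)
    (hN : ∀ N : Subgroup G, IsTwoLocal N → Group.IsSolvable ↥N)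
    (hZ : ∀ S : Sylow 2 G, Subgroup.centralizer (omegaCenterOf (S : Subgroup G) : Set G) ≤
      Subgroup.normalizer ((S : Subgroup G) : Set G))
    {M T : Subgroup G} (hT2 : IsPGroup 2 T) (hT1 : T ≠ ⊥) (h48 : H48 M T)
    {K : Subgroup G} (hK : K ∈ jComponentsOutside M T) :
    ∃ L : Subgroup G, IsMaximalTwoLocal L ∧ K ⊔ thompsonSubgroupOf 2 T ≤ L ∧
      (∀ L' : Subgroup G, IsMaximalTwoLocal L' → K ⊔ thompsonSubgroupOf 2 T ≤ L' → L' = L) ∧
      (K.subgroupOf L).IsSubnormal ∧ IsSylowTwoIn T L := by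
  obtain ⟨hK0, hKM, hO⟩ := hK
  have h : OutCtx M T K := ⟨hL, hN, hZ, hT2, h48, hK0.1, hKM⟩
  obtain ⟨L, hLmax, hLstar⟩ := exists_isMaximalTwoLocal_ge h.lStar_isTwoLocal
  have hNL : Subgroup.normalizer (K : Set G) ≤ L := h.normalizer_le_lStar.trans hLstar
  have hKL : K ≤ L := Subgroup.le_normalizer.trans hNL
  have hJL : thompsonSubgroupOf 2 T ≤ L := h.J_le_normalizer.trans hNL
  -- `T ≤ L`
  have hTL : T ≤ L := by
    set P := K ⊔ T with hP
    have hP2 : IsTwoLocal (Subgroup.normalizer ((pCoreOf 2 P : Subgroup G) : Set G)) :=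
      ⟨pCoreOf 2 P, pCoreOf_isPGroup 2 P, hO, rfl⟩
    have hPN : P ≤ Subgroup.normalizer ((pCoreOf 2 P : Subgroup G) : Set G) := by
      intro x hx
      apply Subgroup.mem_normalizer_fintype
      intro q hq
      exact conj_mem_pCoreOf hx hq
    have h1 := h.le_lStar hP2 (le_sup_left.trans hPN)
      (((thompsonSubgroupOf_le 2 T).trans le_sup_right).trans hPN)
    exact (le_sup_right.trans hPN).trans (h1.trans hLstar)
  have hLM : ¬ L ≤ M := h.not_le_of_le hKL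
  obtain ⟨T₀, hT₀, hJT₀, -⟩ := exists_sylowTwoIn hJL h.J_isPGroup
  have hLT : L ∈ jOvergroups T := (h48 L hLmax.1 hLM T₀ hT₀ hJT₀).2.2 hTL
  refine ⟨L, hLmax, sup_le hKL hJL, ?_, jcomp_isSubnormal hN hZ hT2 hT1 hLT hK0.1 hKL, hLT.1⟩
  intro L' hL'max hXL'
  have h1 : L' ≤ L :=
    (h.le_lStar hL'max.1 (le_sup_left.trans hXL') (le_sup_right.trans hXL')).trans hLstar
  exact (hL'max.2 L hLmax.1 h1).symm

end Cfsg.Agent.Lib.Helper6.JL
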